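import Cfsg.Agent.Lib.Chev.TwMult.Triality.Rank
import Cfsg.Agent.Lib.Chev.TwF4AutBase
import Cfsg.Agent.Lib.Chev.TwF4Param
import Cfsg.Agent.Lib.Linear.Suzuki.Partition

/-!
The two rank one subgroups of ²F₄(q): an image of `SL(2, q)`, and a group acting on four root vectors as a group
of Suzuki matrices.
-/

set_option autoImplicit false
set_option linter.unusedSectionVars false
set_option maxRecDepth 100000

namespace Cfsg.Lib.Chev.TwMult.Ree

open Cfsg.Lie Cfsg.Lib.Chev Cfsg.Lib.Chev.TwMult Cfsg.Lib.Chev.F4Aut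
open scoped MatrixGroups Matrix

/-- The roots of the four vectors. -/
def E4 : Fin 4 → ℕ := ![37, 35, 34, 33]

theorem E4_lt : ∀ i, E4 i < 48 := by decide

theorem E4_inj : Function.Injective E4 := by decide

/-- The four vectors. -/
def ix (i : Fin 4) : chevF4.Idx := Sum.inr ⟨E4 i, E4_lt i⟩

theorem ix_inj : Function.Injective ix := fun i j e => E4_inj (congrArg Fin.val (Sum.inr_injective e) :)

theorem four_tbl :
    [27, 25, 28, 30, 20, 22].map (fun r => (List.finRange 4).map fun j => tblF4.entry r (E4 j)) =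
      [[[], [(37, 1)], [], [(34, 1)]], [[], [], [(35, 1)], []], [[], [], [(37, -1)], [(35, 1)]],
        [[], [], [], [(37, 1)]], [[(35, 1)], [], [(33, 1)], []], [[], [(34, 1)], [], []]] ∧
    [27, 25, 28, 30, 20, 22].all (fun r => (List.finRange 4).all fun j =>
      decide (E4 j ≠ r) && decide (E4 j ≠ tblF4.neg r) &&
        (tblF4.entry r (E4 j)).all fun q => [37, 35, 34, 33].contains q.1) = true := by
  constructor <;> decide +kernel

variable {K : Type*} [Field K]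

theorem xg_entry {r s : ℕ} (hr : r < 48) (hs : s < 48) (h1 : s ≠ r) (h2 : s ≠ tblF4.neg r) (t : K)
    (k : chevF4.Idx) : (xg certF4C r t : Matrix chevF4.Idx chevF4.Idx K) k (Sum.inr ⟨s, hs⟩) =
      Sum.elim (fun _ => (0 : K)) (fun w : Fin chevF4.nroots => (if (w : ℕ) = s then 1 else 0) +
        ((tblF4.entry r s).zipIdx.map fun q => if q.1.1 = (w : ℕ) then (q.1.2 : K) * t ^ (q.2 + 1) else 0).sum) k := by
  have hS := certF4C.spec.shape
  have hr' : r < chevF4.nroots := hr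
  have hn : chevF4.negIdx.getD r 0 = tblF4.neg r := hS.neg_eq r hr'
  rw [coe_xg, ChevalleyDatum.x, dif_pos hr']
  rcases k with k | w
  · simp [ChevalleyDatum.xMat, Fin.ext_iff, h1, hn, h2]
  · simp only [ChevalleyDatum.xMat, Matrix.of_apply, Fin.ext_iff, h1, hn, h2, if_false, Sum.elim_inr]
    rw [hS.chainCoeff_eq hr' hs, List.map_map]
    congr 1
    have := sum_filter_zipIdx (F := K) (tblF4.entry r s) 0 (w : ℕ) (fun k M => (M : K) * t ^ k)
    simpa [Function.comp_def] using this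

/-- The elements keeping the span of the four vectors, as a monoid. -/
def keepM (K : Type*) [Field K] : Submonoid (GL chevF4.Idx K) where
  carrier := {g | ∀ k, (∀ i, k ≠ ix i) → ∀ j, (g : Matrix chevF4.Idx chevF4.Idx K) k (ix j) = 0}
  one_mem' := fun k hk j => Matrix.one_apply_ne (hk j)
  mul_mem' := fun {g h} hg hh k hk j => by
    rw [Units.val_mul, Matrix.mul_apply]
    refine Finset.sum_eq_zero fun l _ => ?_
    by_cases hl : ∃ i, l = ix i
    · obtain ⟨i, rfl⟩ := hl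
      rw [hg k hk i, zero_mul]
    · push Not at hl
      rw [hh l hl j, mul_zero]

variable [Finite K]

/-- The elements keeping the span of the four vectors. -/
noncomputable def keep (K : Type*) [Field K] [Finite K] : Subgroup (GL chevF4.Idx K) where
  toSubmonoid := keepM K
  inv_mem' := fun {g} hg => by
    have h1 : g ^ (orderOf g - 1) * g = 1 := by
      rw [← pow_succ, Nat.sub_add_cancel (orderOf_pos g), pow_orderOf_eq_one]
    rw [← eq_inv_of_mul_eq_one_left h1]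
    exact pow_mem (show g ∈ keepM K from hg) _

/-- The matrix on the four vectors. -/
noncomputable def rho : ↥(keep K) →* GL (Fin 4) K :=
  MonoidHom.toHomUnits
    { toFun := fun g => ((g : GL chevF4.Idx K) : Matrix chevF4.Idx chevF4.Idx K).submatrix ix ix
      map_one' := Matrix.submatrix_one ix ix_inj
      map_mul' := fun g h => by
        ext i j
        simp only [Subgroup.coe_mul, Units.val_mul, Matrix.submatrix_apply, Matrix.mul_apply]
        refine (Fintype.sum_of_injective ix ix_inj _ _ (fun l hl => ?_) fun _ => rfl).symm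
        rw [h.2 l (fun a e => hl ⟨a, e.symm⟩) j, mul_zero] }

theorem rho_val (g : ↥(keep K)) : (rho g : Matrix (Fin 4) (Fin 4) K) =
    ((g : GL chevF4.Idx K) : Matrix chevF4.Idx chevF4.Idx K).submatrix ix ix := rfl

/-- A simple form of the condition on a root. -/
def Good (r : ℕ) : Prop := ∀ j, E4 j ≠ r ∧ E4 j ≠ tblF4.neg r ∧ ∀ q ∈ tblF4.entry r (E4 j), ∃ i, q.1 = E4 i

theorem good_of {r : ℕ} (hr : r ∈ [27, 25, 28, 30, 20, 22]) : Good r := by
  intro j
  have h := List.all_eq_true.1 (List.all_eq_true.1 four_tbl.2 r hr) j (List.mem_finRange j)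
  simp only [Bool.and_eq_true, decide_eq_true_eq, List.all_eq_true] at h
  refine ⟨h.1.1, h.1.2, fun q hq => ?_⟩
  have := List.contains_iff_mem.1 (h.2 q hq)
  simp only [List.mem_cons, List.not_mem_nil, or_false] at this
  rcases this with e | e | e | e
  exacts [⟨0, e⟩, ⟨1, e⟩, ⟨2, e⟩, ⟨3, e⟩]

theorem xg_keep {r : ℕ} (hr : r < 48) (hg : Good r) (t : K) : xg certF4C r t ∈ keep K := by
  intro k hk j
  obtain ⟨h1, h2, h3⟩ := hg j
  refine (xg_entry hr (E4_lt j) h1 h2 t k).trans ?_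
  rcases k with k | w
  · rfl
  · have hw : ∀ i, (w : ℕ) ≠ E4 i := fun i e => hk i (congrArg Sum.inr (Fin.ext e))
    rw [Sum.elim_inr, if_neg (hw j), zero_add]
    refine List.sum_eq_zero fun z hz => ?_
    obtain ⟨q, hq, rfl⟩ := List.mem_map.1 hz
    obtain ⟨i, hi⟩ := h3 q.1 (List.fst_mem_of_mem_zipIdx hq)
    rw [if_neg fun e => hw i (e.symm.trans hi)]

theorem rho_xg {r : ℕ} (hr : r < 48) (hg : Good r) (t : K) (i j : Fin 4) :
    (rho ⟨xg certF4C r t, xg_keep hr hg t⟩ : Matrix (Fin 4) (Fin 4) K) i j =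
      (if i = j then 1 else 0) +
        ((tblF4.entry r (E4 j)).zipIdx.map fun q => if q.1.1 = E4 i then (q.1.2 : K) * t ^ (q.2 + 1) else 0).sum := by
  refine (xg_entry hr (E4_lt j) (hg j).1 (hg j).2.1 t (ix i)).trans ?_
  simp [ix, E4_inj.eq_iff]

theorem rho_six [CharP K 2] (t : K) : ∀ i j : Fin 4,
    (rho ⟨xg certF4C 27 t, xg_keep (by norm_num) (good_of (by decide)) t⟩ : Matrix (Fin 4) (Fin 4) K) i j =
      !![1, t, 0, 0; 0, 1, 0, 0; 0, 0, 1, t; 0, 0, 0, 1] i j ∧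
    (rho ⟨xg certF4C 25 t, xg_keep (by norm_num) (good_of (by decide)) t⟩ : Matrix (Fin 4) (Fin 4) K) i j =
      !![1, 0, 0, 0; 0, 1, t, 0; 0, 0, 1, 0; 0, 0, 0, 1] i j ∧
    (rho ⟨xg certF4C 28 t, xg_keep (by norm_num) (good_of (by decide)) t⟩ : Matrix (Fin 4) (Fin 4) K) i j =
      !![1, 0, t, 0; 0, 1, 0, t; 0, 0, 1, 0; 0, 0, 0, 1] i j ∧
    (rho ⟨xg certF4C 30 t, xg_keep (by norm_num) (good_of (by decide)) t⟩ : Matrix (Fin 4) (Fin 4) K) i j =
      !![1, 0, 0, t; 0, 1, 0, 0; 0, 0, 1, 0; 0, 0, 0, 1] i j ∧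
    (rho ⟨xg certF4C 20 t, xg_keep (by norm_num) (good_of (by decide)) t⟩ : Matrix (Fin 4) (Fin 4) K) i j =
      !![1, 0, 0, 0; t, 1, 0, 0; 0, 0, 1, 0; 0, 0, t, 1] i j ∧
    (rho ⟨xg certF4C 22 t, xg_keep (by norm_num) (good_of (by decide)) t⟩ : Matrix (Fin 4) (Fin 4) K) i j =
      !![1, 0, 0, 0; 0, 1, 0, 0; 0, t, 1, 0; 0, 0, 0, 1] i j := by
  intro i j
  have h := four_tbl.1
  simp only [List.map_cons, List.map_nil, List.cons.injEq, and_true, List.finRange_succ, List.finRange_zero] at h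
  refine ⟨(rho_xg (by norm_num) (good_of (by decide)) t i j).trans ?_,
    (rho_xg (by norm_num) (good_of (by decide)) t i j).trans ?_,
    (rho_xg (by norm_num) (good_of (by decide)) t i j).trans ?_,
    (rho_xg (by norm_num) (good_of (by decide)) t i j).trans ?_,
    (rho_xg (by norm_num) (good_of (by decide)) t i j).trans ?_,
    (rho_xg (by norm_num) (good_of (by decide)) t i j).trans ?_⟩ <;>
    fin_cases i <;> fin_cases j <;> simp_all [E4, CharTwo.neg_eq]

/-- An element keeping the span with a given matrix. -/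
def Acts (g : GL chevF4.Idx K) (M : Matrix (Fin 4) (Fin 4) K) : Prop :=
  ∃ h : g ∈ keep K, (rho ⟨g, h⟩ : Matrix (Fin 4) (Fin 4) K) = M

theorem Acts.mul {g g' : GL chevF4.Idx K} {M M' : Matrix (Fin 4) (Fin 4) K} (h : Acts g M) (h' : Acts g' M') :
    Acts (g * g') (M * M') := by
  obtain ⟨h, rfl⟩ := h
  obtain ⟨h', rfl⟩ := h'
  exact ⟨mul_mem h h', by rw [← Units.val_mul, ← map_mul]; rfl⟩

theorem Acts.unique {g : GL chevF4.Idx K} {M M' : Matrix (Fin 4) (Fin 4) K} (h : Acts g M) (h' : Acts g M') :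
    M = M' := h.2.symm.trans h'.2

theorem acts_six [CharP K 2] (t : K) :
    Acts (xg certF4C 27 t) !![1, t, 0, 0; 0, 1, 0, 0; 0, 0, 1, t; 0, 0, 0, 1] ∧
    Acts (xg certF4C 25 t) !![1, 0, 0, 0; 0, 1, t, 0; 0, 0, 1, 0; 0, 0, 0, 1] ∧
    Acts (xg certF4C 28 t) !![1, 0, t, 0; 0, 1, 0, t; 0, 0, 1, 0; 0, 0, 0, 1] ∧
    Acts (xg certF4C 30 t) !![1, 0, 0, t; 0, 1, 0, 0; 0, 0, 1, 0; 0, 0, 0, 1] ∧
    Acts (xg certF4C 20 t) !![1, 0, 0, 0; t, 1, 0, 0; 0, 0, 1, 0; 0, 0, t, 1] ∧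
    Acts (xg certF4C 22 t) !![1, 0, 0, 0; 0, 1, 0, 0; 0, t, 1, 0; 0, 0, 0, 1] :=
  ⟨⟨_, Matrix.ext fun i j => (rho_six t i j).1⟩, ⟨_, Matrix.ext fun i j => (rho_six t i j).2.1⟩,
    ⟨_, Matrix.ext fun i j => (rho_six t i j).2.2.1⟩, ⟨_, Matrix.ext fun i j => (rho_six t i j).2.2.2.1⟩,
    ⟨_, Matrix.ext fun i j => (rho_six t i j).2.2.2.2.1⟩, ⟨_, Matrix.ext fun i j => (rho_six t i j).2.2.2.2.2⟩⟩

section Twisted

variable [CharP K esymF4.p] [Fintype K] {m : ℕ} (hK : Fintype.card K = 2 ^ (2 * m + 1))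

local instance charTwoLevi1 : CharP K 2 := inferInstanceAs (CharP K esymF4.p)

include hK

theorem acts_Q (t u : K) : Acts (f4Q m 27 25 28 30 t u) (Cfsg.Lib.Linear.Suz.uM m (t ^ 2 ^ m) (t ^ (2 ^ m + 1) + u)) := by
  obtain ⟨a, -, -, -, -, -⟩ := acts_six (t ^ 2 ^ m)
  obtain ⟨-, b, -, -, -, -⟩ := acts_six t
  obtain ⟨-, -, c, -, -, -⟩ := acts_six (t ^ (2 ^ m + 1) + u)
  obtain ⟨-, -, -, d, -, -⟩ := acts_six (u ^ (2 * 2 ^ m))
  have h := ((a.mul b).mul c).mul d
  obtain ⟨hg, e⟩ := h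
  refine ⟨hg, ?_⟩
  show (rho ⟨xg certF4C 27 (t ^ 2 ^ m) * xg certF4C 25 t * xg certF4C 28 (t ^ (2 ^ m + 1) + u) *
    xg certF4C 30 (u ^ (2 * 2 ^ m)), hg⟩ : Matrix (Fin 4) (Fin 4) K) = _
  rw [e]
  have h1 : Cfsg.Lib.Linear.Suz.th m (t ^ 2 ^ m) = t := by
    rw [Cfsg.Lib.Linear.Suz.th, pow_succ]; exact f4_theta hK t
  have h2 : Cfsg.Lib.Linear.Suz.th m (t ^ (2 ^ m + 1) + u) =
      (t ^ 2 ^ m) ^ 2 * t + u ^ (2 * 2 ^ m) := by
    rw [Cfsg.Lib.Linear.Suz.th, f4_add_pow, pow_succ' 2 m]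
    congr 1
    rw [pow_succ t, mul_pow, mul_comm 2, f4_theta hK, ← pow_mul, mul_comm]
  have h0 : (2 : K) = 0 := f4_two_eq_zero
  rw [Cfsg.Lib.Linear.Suz.uM, h1, h2, pow_succ t]
  ext i j
  fin_cases i <;> fin_cases j <;> simp [Matrix.mul_apply, Fin.sum_univ_four] <;> grind

omit hK in
theorem acts_n : Acts (wnu certF4C K [1, 2, 1, 2]) (Cfsg.Lib.Linear.Suz.wM K) := by
  obtain ⟨a, b, -, -, c, d⟩ := acts_six (K := K) 1
  have hs : tblF4.simp' 1 = 27 ∧ tblF4.simp' 2 = 25 ∧ tblF4.neg 27 = 20 ∧ tblF4.neg 25 = 22 := by decide +kernel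
  have hng : ∀ r < 48, ng certF4C r (1 : K) = xg certF4C r 1 * xg certF4C (tblF4.neg r) 1 * xg certF4C r 1 := by
    intro r hr
    rw [ng, inv_one, CharTwo.neg_eq, certF4C.spec.shape.neg_eq r hr]
  have e : wnu certF4C K [1, 2, 1, 2] =
      (xg certF4C 27 1 * xg certF4C 20 1 * xg certF4C 27 1) * (xg certF4C 25 1 * xg certF4C 22 1 * xg certF4C 25 1) *
        ((xg certF4C 27 1 * xg certF4C 20 1 * xg certF4C 27 1) * (xg certF4C 25 1 * xg certF4C 22 1 * xg certF4C 25 (1 : K))) := by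
    simp only [wnu, nu, List.map_cons, List.map_nil, List.prod_cons, List.prod_nil, mul_one, hs.1, hs.2.1]
    rw [hng 27 (by norm_num), hng 25 (by norm_num), hs.2.2.1, hs.2.2.2]
    simp only [mul_assoc]
  have hu := ((a.mul c).mul a).mul ((b.mul d).mul b)
  have h := hu.mul hu
  rw [← e] at h
  obtain ⟨hg, e'⟩ := h
  refine ⟨hg, e'.trans ?_⟩
  have h0 : (1 : K) + 1 = 0 := CharTwo.add_self_eq_zero 1
  ext i j
  fin_cases i <;> fin_cases j <;> simp [Matrix.mul_apply, Fin.sum_univ_four, Cfsg.Lib.Linear.Suz.wM, h0]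

theorem acts_H (p : Kˣ × Kˣ) :
    Acts ((eH hK p : ↥(fX hK).grp) : GL chevF4.Idx K) (Matrix.diagonal fun i => χ m (E4 i) p) := by
  have hd : ((eH hK p : GL chevF4.Idx K) : Matrix chevF4.Idx chevF4.Idx K) =
      scal tblF4 chevF4 (extend' (f4Par m p.1 p.2)) := rfl
  refine ⟨fun k hk j => ?_, ?_⟩
  · rw [hd, scal, Matrix.diagonal_apply_ne _ (hk j)]
  · rw [rho_val, hd, scal, Matrix.submatrix_diagonal _ _ ix_inj]
    rfl

/-- The four characters determine the parameters. -/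
theorem chi_four (p : Kˣ × Kˣ) :
    χ m 37 p = (((p.1)⁻¹ * p.2 ^ 2 ^ m : Kˣ) : K) ∧ χ m 35 p = ((p.1 ^ 2 ^ m * (p.2 ^ 2 ^ m)⁻¹ * p.2 * (p.1)⁻¹ : Kˣ) : K) ∧
    χ m 34 p = ((p.1 ^ 2 ^ m * p.2 ^ 2 ^ m * (p.2)⁻¹ : Kˣ) : K) ∧
    χ m 33 p = (((p.1 ^ 2 ^ m) ^ 2 * (p.2 ^ 2 ^ m)⁻¹ : Kˣ) : K) := by
  have hc : [37, 35, 34, 33].map (fun r => (List.range 4).map fun i => tblF4.cartan i r) =
      [[0, 1, 0, -1], [1, -1, 1, -1], [1, 1, -1, 0], [2, -1, 0, 0]] := by decide +kernel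
  simp only [List.map_cons, List.map_nil, List.range_succ, List.range_zero, List.cons.injEq, and_true,
    List.nil_append, List.cons_append] at hc
  obtain ⟨v, s⟩ := p
  have hT : ∀ x : Kˣ, x ^ ((2 : ℤ) ^ m) = x ^ 2 ^ m := fun x => by
    rw [← zpow_natCast x (2 ^ m)]; congr 1
  refine ⟨?_, ?_, ?_, ?_⟩ <;> rw [χ_eq hK] <;> congr 1 <;>
    simp only [hc, mul_zero, mul_one, zero_add, add_zero, mul_neg, zpow_add, zpow_neg, zpow_one, hT, zpow_zero,
      one_mul, zpow_mul, mul_assoc] <;>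
    first | rfl | ac_rfl | (rw [show ((2 : ℤ) ^ m) * 2 = ((2 ^ m * 2 : ℕ) : ℤ) by push_cast; rfl, zpow_natCast, pow_mul]) | group

/-- A relation forcing a parameter to be trivial. -/
theorem unit_trivial {v : Kˣ} (h : v = (v ^ 2 ^ m) ^ 2) : v = 1 := by
  have hq : (v ^ 2 ^ m) ^ (2 ^ m * 2) = v := Units.ext (by simp [f4_theta hK])
  have h1 : v ^ 2 ^ m = v := by
    conv_lhs => rw [h, ← pow_mul, mul_comm 2]
    exact hq
  have h2 : v * v = v * 1 := by
    rw [mul_one, ← sq]; nth_rw 2 [h]; rw [h1]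
  exact mul_left_cancel h2

theorem phi_hom_aux (g h : SL(2, K)) :
    Commute ((rootRel (F := K) certF4C (show 33 < chevF4.nroots by decide)).hom g)
      ((rootRel (F := K) certF4C (show 24 < chevF4.nroots by decide)).hom h) := by
  have hmem : ∀ (r : ℕ) (hr : r < chevF4.nroots) (g : SL(2, K)),
      (rootRel (F := K) certF4C hr).hom g ∈ rootClosure certF4C K [r, tblF4.neg r] := by
    intro r hr g
    have h : (rootRel (F := K) certF4C hr).hom g ∈ (rootRel (F := K) certF4C hr).hom.range := ⟨g, rfl⟩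
    rw [SLTwoRel.hom_range] at h
    refine (Subgroup.closure_le _).2 ?_ h
    rintro _ (⟨t, rfl⟩ | ⟨t, rfl⟩)
    · exact xg_mem_rootClosure certF4C (List.mem_cons_self ..) t
    · exact xg_mem_rootClosure certF4C (l := [r, tblF4.neg r]) (by simp) t
  have hchk : chkTerms tblF4 [33, tblF4.neg 33] [24, tblF4.neg 24] [] = true := by decide +kernel
  have hn : tblF4.neg 33 < 48 ∧ tblF4.neg 24 < 48 := by decide +kernel
  have hbot : rootClosure certF4C K ([] : List ℕ) = ⊥ := by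
    rw [rootClosure, show {g : GL chevF4.Idx K | ∃ r ∈ ([] : List ℕ), ∃ t : K, g = xg certF4C r t} = ∅ from
      Set.eq_empty_iff_forall_notMem.2 fun g ⟨r, hr, _⟩ => absurd hr List.not_mem_nil, Subgroup.closure_empty]
  have h0 : ∀ A : List ℕ, chkTerms tblF4 A [] [] = true := fun A => by simp [chkTerms]
  have hl : ∀ a, a < 48 → tblF4.neg a < 48 → ∀ x ∈ [a, tblF4.neg a], x < chevF4.nroots := by
    intro a ha ha' x hx
    simp only [List.mem_cons, List.not_mem_nil, or_false] at hx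
    rcases hx with rfl | rfl <;> assumption
  have := rootClosure_comm certF4C fullCertF4.comm hchk (h0 _) (h0 _) (hl 33 (by norm_num) hn.1)
    (hl 24 (by norm_num) hn.2) (fun x hx => absurd hx List.not_mem_nil) (hmem 33 (by decide) g) (hmem 24 (by decide) h)
  rw [hbot, Subgroup.mem_bot] at this
  exact commutatorElement_eq_one_iff_mul_comm.1 this

/-- The field map on matrices. -/
noncomputable def thSL (K : Type*) [Field K] [CharP K 2] (m : ℕ) : SL(2, K) →* SL(2, K) :=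
  Matrix.SpecialLinearGroup.map (fTh K m)

/-- The first rank one homomorphism. -/
noncomputable def phi0 : SL(2, K) →* GL chevF4.Idx K :=
  MonoidHom.mk' (fun g => (rootRel (F := K) certF4C (show 33 < chevF4.nroots by decide)).hom (thSL K m g) *
      (rootRel (F := K) certF4C (show 24 < chevF4.nroots by decide)).hom g) fun a b => by
    simp only [map_mul]
    simp only [mul_assoc]
    congr 1
    rw [← mul_assoc, ← mul_assoc, (phi_hom_aux hK (thSL K m b) a).eq]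

theorem thSL_upr (b : K) : thSL K m (SLTwoRel.upr b) = SLTwoRel.upr (b ^ 2 ^ m) := by
  refine Subtype.ext ?_
  ext i j
  fin_cases i <;> fin_cases j <;>
    simp [thSL, SLTwoRel.coe_upr, fTh, iterateFrobenius_def, zero_pow (Nat.two_pow_pos m).ne']

theorem thSL_rot : thSL K m SLTwoRel.rot = (SLTwoRel.rot : SL(2, K)) := by
  refine Subtype.ext ?_
  ext i j
  fin_cases i <;> fin_cases j <;>
    simp [thSL, SLTwoRel.coe_rot, fTh, iterateFrobenius_def, zero_pow (Nat.two_pow_pos m).ne'] <;>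
    simp [f4_neg_eq]

theorem thSL_tri (a : K) (ha : a ≠ 0) :
    thSL K m (SLTwoRel.tri a 0 ha) = SLTwoRel.tri (a ^ 2 ^ m) 0 (pow_ne_zero _ ha) := by
  refine Subtype.ext ?_
  ext i j
  fin_cases i <;> fin_cases j <;>
    simp [thSL, SLTwoRel.coe_tri, fTh, iterateFrobenius_def, zero_pow (Nat.two_pow_pos m).ne', inv_pow]

theorem phi0_upr (b : K) : phi0 hK (SLTwoRel.upr b) = f4P m 33 24 b := by
  show (rootRel (F := K) certF4C _).toFun' (thSL K m (SLTwoRel.upr b)) * (rootRel (F := K) certF4C _).toFun' _ = _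
  rw [thSL_upr hK, SLTwoRel.toFun'_upr, SLTwoRel.toFun'_upr]
  rfl

theorem phi0_rot : phi0 hK SLTwoRel.rot = wnu certF4C K [0, 3] := by
  show (rootRel (F := K) certF4C _).toFun' (thSL K m SLTwoRel.rot) * (rootRel (F := K) certF4C _).toFun' _ = _
  rw [thSL_rot hK, SLTwoRel.toFun'_rot, SLTwoRel.toFun'_rot]
  have hs : tblF4.simp' 0 = 33 ∧ tblF4.simp' 3 = 24 := by decide +kernel
  simp [wnu, nu, hs.1, hs.2, rootRel]

theorem phi0_tri (a : Kˣ) : phi0 hK (SLTwoRel.tri (a : K) 0 a.ne_zero) = (eH hK (a, 1) : GL chevF4.Idx K) := by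
  show (rootRel (F := K) certF4C _).toFun' (thSL K m _) * (rootRel (F := K) certF4C _).toFun' _ = _
  rw [thSL_tri hK]
  simp only [SLTwoRel.toFun', SLTwoRel.coe_tri, rootRel]
  simp only [Matrix.of_apply, Matrix.cons_val', Matrix.cons_val_zero, Matrix.cons_val_one, Matrix.cons_val_fin_one]
  simp [xg_zero]
  show hg certF4C 33 ((a : K) ^ 2 ^ m) * hg certF4C 24 (a : K) = _
  rw [diag_comm certF4C (hg_mem certF4C (by decide) (pow_ne_zero _ a.ne_zero)) (hg_mem certF4C (by decide) a.ne_zero),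
    f4_pair_torus]
  rfl

end Twisted

end Cfsg.Lib.Chev.TwMult.Ree
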