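import Cfsg.Agent.Lib.Chev.TwF4Param
import Cfsg.Agent.Lib.Chev.TwMult.Closed
import Cfsg.Agent.Lib.Chev.TwMult.Layers

/-!
The layers of the positive fixed unipotent group of ²F₄(q), read off from the first root by index.
-/

set_option autoImplicit false
set_option linter.unusedSectionVars false
set_option maxRecDepth 100000

namespace Cfsg.Lib.Chev.TwMult.Ree

open Cfsg.Lie Cfsg.Lib.Chev Cfsg.Lib.Chev.TwMult
open scoped commutatorElement

/-- The leading positions of the twelve layers, from the top. -/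
def lead : ℕ → ℕ
  | 0 => 20
  | 1 => 16
  | 2 => 15
  | 3 => 14
  | 4 => 12
  | 5 => 8
  | 6 => 7
  | 7 => 5
  | 8 => 4
  | 9 => 2
  | 10 => 1
  | _ => 0

/-- The bound of the layers below. -/
def bnd : ℕ → ℕ
  | 0 => 24
  | j + 1 => lead j

theorem lead_lt : ∀ j < 12, lead j < 24 := by decide
theorem lead_anti : ∀ j < 12, ∀ k < j, lead j + 1 ≤ lead k := by decide
theorem lead_bnd : ∀ j < 12, lead j + 1 ≤ bnd j := by decide
theorem bnd_anti : ∀ j ≤ 12, ∀ k < j, bnd j ≤ lead k := by decide

/-- The roots from a position on. -/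
def ups (n : ℕ) : List ℕ := List.range' (24 + n) (24 - n)

theorem mem_ups {n r : ℕ} : r ∈ ups n ↔ 24 + n ≤ r ∧ r < 48 := by
  rw [ups, List.mem_range'_1]; omega

theorem chk_ups : ∀ j < 12, ∀ k ≤ j,
    chkTerms tblF4 (ups (lead j)) (ups (lead k)) (ups (lead k + 1)) = true ∧
    chkTerms tblF4 (ups (lead j)) (ups (lead k + 1)) (ups (lead k + 1)) = true := by decide +kernel

variable {K : Type*} [Field K]

theorem rootClosure_ups (n : ℕ) : rootClosure certF4C K (ups n) = upper certF4C K (24 + n) := by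
  refine le_antisymm ((Subgroup.closure_le _).2 ?_) ((Subgroup.closure_le _).2 ?_)
  · rintro g ⟨r, hr, t, rfl⟩
    exact xg_mem_upper certF4C (mem_ups.1 hr).1 t
  · rintro g ⟨r, t, h1, h2, rfl⟩
    exact xg_mem_rootClosure certF4C (mem_ups.2 ⟨h1, h2⟩) t

theorem upper_comm {j k : ℕ} (hj : j < 12) (hk : k ≤ j) {a b : GL chevF4.Idx K}
    (ha : a ∈ upper certF4C K (24 + lead j)) (hb : b ∈ upper certF4C K (24 + lead k)) :
    ⁅a, b⁆ ∈ upper certF4C K (24 + (lead k + 1)) := by
  have hlt : ∀ n, ∀ r ∈ ups n, r < chevF4.nroots := fun n r hr => (mem_ups.1 hr).2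
  rw [← rootClosure_ups] at ha hb ⊢
  exact rootClosure_comm certF4C fullCertF4.comm (chk_ups j hj k hk).1 (chk_ups j hj k hk).2
    (chk_ups k (by omega) k le_rfl).2 (hlt _) (hlt _) (hlt _) ha hb

/-- The first coefficient of a word. -/
theorem word_split : ∀ (w : List (ℕ × K)) {n : ℕ}, n < 24 → (∀ p ∈ w, p.1 < n → p.2 = 0) →
    ∃ u ∈ upper certF4C K (24 + n + 1),
      fVal w = xg certF4C (24 + n) ((w.map fun p => if p.1 = n then p.2 else 0).sum) * u := by
  intro w
  induction w with
  | nil => intro n _ _; exact ⟨1, one_mem _, by simp [fVal, xg_zero]⟩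
  | cons p w ih =>
    intro n hn hw
    obtain ⟨u, hu, e⟩ := ih hn fun q hq => hw q (List.mem_cons_of_mem _ hq)
    have e1 : fVal (p :: w) = xg certF4C (24 + p.1) p.2 * fVal w := by simp [fVal]
    rw [e1, e, List.map_cons, List.sum_cons]
    rcases lt_trichotomy p.1 n with h | h | h
    · exact ⟨u, hu, by rw [hw p (List.mem_cons_self ..) h, if_neg h.ne, xg_zero, one_mul, zero_add]⟩
    · refine ⟨u, hu, ?_⟩
      rw [if_pos h, h, ← mul_assoc, xg_add]
    · set S := (w.map fun p => if p.1 = n then p.2 else 0).sum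
      refine ⟨xg certF4C (24 + n) (-S) * xg certF4C (24 + p.1) p.2 * (xg certF4C (24 + n) (-S))⁻¹ * u, mul_mem
        (conj_upper' certF4C fullCertF4.comm (show 48 ≤ 2 * (24 + n) by omega) _
          (xg_mem_upper certF4C (by omega) _)) hu, ?_⟩
      rw [if_neg h.ne', zero_add, xg_inv, neg_neg]
      simp only [← mul_assoc, xg_add, add_neg_cancel, xg_zero, one_mul]

variable [CharP K esymF4.p]

local instance charTwoRoots1 : CharP K 2 := inferInstanceAs (CharP K esymF4.p)

variable [Fintype K] {m : ℕ} (hK : Fintype.card K = 2 ^ (2 * m + 1))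

/-- The group. -/
noncomputable abbrev grp (K : Type*) [Field K] [CharP K esymF4.p] (m : ℕ) : Subgroup (GL chevF4.Idx K) :=
  (twOKF4 (K := K) m).fixed certF4C

/-- The coefficient of a layer. -/
noncomputable def coef (m : ℕ) (p : FParam K) : ℕ → K
  | 0 => p.g'
  | 1 => p.e'
  | 2 => fTh K m p.h
  | 3 => fTh K m p.k
  | 4 => p.c'
  | 5 => p.d
  | 6 => p.e
  | 7 => fTh K m p.g
  | 8 => p.b'
  | 9 => p.c
  | 10 => p.b
  | _ => p.a

/-- The parameters of a layer element. -/
def param (m : ℕ) (j : ℕ) (a : K) : FParam K where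
  g' := if j = 0 then a else 0
  e' := if j = 1 then a else 0
  h := if j = 2 then a ^ (2 * 2 ^ m) else 0
  k := if j = 3 then a ^ (2 * 2 ^ m) else 0
  c' := if j = 4 then a else 0
  d := if j = 5 then a else 0
  e := if j = 6 then a else 0
  g := if j = 7 then a ^ (2 * 2 ^ m) else 0
  b' := if j = 8 then a else 0
  c := if j = 9 then a else 0
  b := if j = 10 then a else 0
  a := if j = 11 then a else 0

include hK

theorem coef_param {j : ℕ} (hj : j < 12) (a : K) {i : ℕ} (hi : i < 12) :
    coef m (param m j a) i = if i = j then a else 0 := by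
  have e : fTh K m (a ^ (2 * 2 ^ m)) = a := by
    simp only [fTh, iterateFrobenius_def]; exact f4_theta' hK a
  interval_cases i <;> simp only [coef, param] <;> split_ifs <;> first
    | omega
    | exact e
    | exact map_zero _
    | rfl

omit hK in
set_option maxHeartbeats 4000000 in
/-- The leading coefficient of the parameters. -/
theorem el_split (p : FParam K) {j : ℕ} (hj : j < 12) (hz : ∀ i, j < i → i < 12 → coef m p i = 0) :
    ∃ u ∈ upper certF4C K (24 + lead j + 1), p.el m = xg certF4C (24 + lead j) (coef m p j) * u := by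
  obtain ⟨u, hu, e⟩ := word_split (p.word (fTh K m)) (lead_lt j hj) (by
    have h11 := fun h => hz 11 h (by norm_num)
    have h10 := fun h => hz 10 h (by norm_num)
    have h9 := fun h => hz 9 h (by norm_num)
    have h8 := fun h => hz 8 h (by norm_num)
    have h7 := fun h => hz 7 h (by norm_num)
    have h6 := fun h => hz 6 h (by norm_num)
    have h5 := fun h => hz 5 h (by norm_num)
    have h4 := fun h => hz 4 h (by norm_num)
    have h3 := fun h => hz 3 h (by norm_num)
    have h2 := fun h => hz 2 h (by norm_num)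
    have h1 := fun h => hz 1 h (by norm_num)
    interval_cases j <;> simp_all [FParam.word, coef, lead])
  refine ⟨u, hu, e.trans ?_⟩
  have h11 := fun h => hz 11 h (by norm_num)
  have h10 := fun h => hz 10 h (by norm_num)
  have h9 := fun h => hz 9 h (by norm_num)
  have h8 := fun h => hz 8 h (by norm_num)
  have h7 := fun h => hz 7 h (by norm_num)
  have h6 := fun h => hz 6 h (by norm_num)
  have h5 := fun h => hz 5 h (by norm_num)
  have h4 := fun h => hz 4 h (by norm_num)
  have h3 := fun h => hz 3 h (by norm_num)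
  have h2 := fun h => hz 2 h (by norm_num)
  have h1 := fun h => hz 1 h (by norm_num)
  suffices hsum : ((p.word (fTh K m)).map fun x => if x.1 = lead j then x.2 else 0).sum = coef m p j by rw [hsum]
  clear e hu hz
  interval_cases j <;> simp_all [FParam.word, coef, lead]

theorem el_eq_one (p : FParam K) (hz : ∀ i < 12, coef m p i = 0) : p.el m = 1 := by
  have h11 := hz 11 (by norm_num)
  have h10 := hz 10 (by norm_num)
  have h9 := hz 9 (by norm_num)
  have h8 := hz 8 (by norm_num)
  have h7 := hz 7 (by norm_num)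
  have h6 := hz 6 (by norm_num)
  have h5 := hz 5 (by norm_num)
  have h4 := hz 4 (by norm_num)
  have h3 := hz 3 (by norm_num)
  have h2 := hz 2 (by norm_num)
  have h1 := hz 1 (by norm_num)
  have h0 := hz 0 (by norm_num)
  simp_all [FParam.el, fVal, FParam.word, coef, xg_zero]

theorem el_fixed (p : FParam K) : p.el m ∈ grp K m := (p.el_mem hK).2

/-- The layer elements. -/
noncomputable def X (j : ℕ) (a : K) : ↥(grp K m) := ⟨(param m j a).el m, el_fixed hK _⟩

theorem X_split {j : ℕ} (hj : j < 12) (a : K) :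
    ∃ u ∈ upper certF4C K (24 + lead j + 1), (X hK j a : GL chevF4.Idx K) = xg certF4C (24 + lead j) a * u := by
  obtain ⟨u, hu, e⟩ := el_split (m := m) (param m j a) hj fun i h1 h2 => by
    rw [coef_param hK hj a h2, if_neg h1.ne']
  exact ⟨u, hu, e.trans (by rw [coef_param hK hj a hj, if_pos rfl])⟩

theorem X_upper {j : ℕ} (hj : j < 12) (a : K) : (X hK j a : GL chevF4.Idx K) ∈ upper certF4C K (24 + lead j) := by
  obtain ⟨u, hu, e⟩ := X_split hK hj a
  rw [e]
  exact mul_mem (xg_mem_upper certF4C le_rfl a) (upper_anti certF4C (Nat.le_succ _) hu)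

/-- The layers above a bound vanish. -/
theorem zero_of_upper (p : FParam K) {j : ℕ} (hj : j ≤ 12) (hp : p.el m ∈ upper certF4C K (24 + bnd j)) :
    ∀ i, j ≤ i → i < 12 → coef m p i = 0 := by
  intro i hji hi
  induction hd : 12 - i using Nat.strong_induction_on generalizing i with
  | _ d ih =>
    obtain ⟨u, hu, e⟩ := el_split (m := m) p hi fun k h1 h2 => ih (12 - k) (by omega) k (by omega) h2 rfl
    have h2 : p.el m ∈ upper certF4C K (24 + lead i + 1) := by
      refine upper_anti certF4C ?_ hp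
      rcases hji.lt_or_eq with h | rfl
      · have := bnd_anti
        have h3 : lead i + 1 ≤ lead j := lead_anti i hi j h
        have h4 : lead j + 1 ≤ bnd j := lead_bnd j (by omega)
        omega
      · have := lead_bnd j hi
        omega
    have hlt := lead_lt i hi
    refine (upper_unique certF4C (k := 24 + lead i) (show 48 ≤ 2 * (24 + lead i) by omega) (show 24 + lead i < 48 by omega)
      (u := 0) hu h2 ?_).1
    rw [xg_zero, one_mul]; exact e.symm

theorem mem_upper_of_zero (p : FParam K) {j : ℕ} (hj : j ≤ 12) (hz : ∀ i, j ≤ i → i < 12 → coef m p i = 0) :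
    p.el m ∈ upper certF4C K (24 + bnd j) := by
  cases j with
  | zero => rw [el_eq_one hK p fun i hi => hz i (Nat.zero_le i) hi]; exact one_mem _
  | succ j =>
    obtain ⟨u, hu, e⟩ := el_split (m := m) p (Nat.lt_of_succ_le hj) fun i h1 h2 => hz i h1 h2
    rw [e]
    exact mul_mem (xg_mem_upper certF4C le_rfl _) (upper_anti certF4C (Nat.le_succ _) hu)

theorem exists_param {g : ↥(grp K m)} {n : ℕ} (hg : (g : GL chevF4.Idx K) ∈ upper certF4C K (24 + n)) :
    ∃ p : FParam K, p.el m = g := by
  refine fU_surj hK ⟨?_, g.2⟩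
  rw [posUnipotent_eq certF4C]
  exact upper_anti certF4C (show 48 / 2 ≤ 24 + n by omega) hg

theorem up_step {g : ↥(grp K m)} {j : ℕ} (hj : j < 12)
    (hg : (g : GL chevF4.Idx K) ∈ upper certF4C K (24 + lead j + 1)) :
    (g : GL chevF4.Idx K) ∈ upper certF4C K (24 + bnd j) := by
  obtain ⟨p, hp⟩ := exists_param hK (n := lead j + 1) hg
  rw [← hp] at hg ⊢
  have hb : ∀ i, j < i → i < 12 → coef m p i = 0 := fun i h1 h2 =>
    zero_of_upper hK p (show j + 1 ≤ 12 by omega) (upper_anti certF4C (show 24 + bnd (j + 1) ≤ 24 + lead j + 1 by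
      show 24 + lead j ≤ _; omega) hg) i h1 h2
  obtain ⟨u, hu, e⟩ := el_split (m := m) p hj hb
  have hlt := lead_lt j hj
  have h0 : coef m p j = 0 := (upper_unique certF4C (k := 24 + lead j) (show 48 ≤ 2 * (24 + lead j) by omega)
    (show 24 + lead j < 48 by omega) (u := 0) hu hg (by rw [xg_zero, one_mul]; exact e.symm)).1
  refine mem_upper_of_zero hK p hj.le fun i h1 h2 => ?_
  rcases h1.lt_or_eq with h | rfl
  exacts [hb i h h2, h0]

theorem span_upper {j : ℕ} (hj : j ≤ 12) {g : ↥(grp K m)} :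
    g ∈ spanBelow (X hK) j ↔ (g : GL chevF4.Idx K) ∈ upper certF4C K (24 + bnd j) := by
  constructor
  · intro hg
    have hle : spanBelow (X hK) j ≤ (upper certF4C K (24 + bnd j)).subgroupOf (grp K m) := by
      refine (Subgroup.closure_le _).2 ?_
      rintro _ ⟨k, hk, a, rfl⟩
      exact upper_anti certF4C (Nat.add_le_add_left (bnd_anti j hj k hk) 24) (X_upper hK (by omega) a)
    exact hle hg
  · induction j generalizing g with
    | zero =>
      intro hg
      rw [upper_top certF4C (show 48 ≤ 24 + bnd 0 by decide), Subgroup.mem_bot] at hg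
      rw [show g = 1 from Subtype.ext hg]; exact one_mem _
    | succ j ih =>
      intro hg
      have hj' : j < 12 := hj
      obtain ⟨p, hp⟩ := exists_param hK (n := bnd (j + 1)) hg
      obtain ⟨u, hu, e⟩ := el_split (m := m) p hj' fun i h1 h2 => zero_of_upper hK p hj (hp.symm ▸ hg) i h1 h2
      obtain ⟨v, hv, e'⟩ := X_split hK hj' (coef m p j)
      have hrest : (((X hK j (coef m p j))⁻¹ * g : ↥(grp K m)) : GL chevF4.Idx K) ∈ upper certF4C K (24 + lead j + 1) := by
        rw [Subgroup.coe_mul, InvMemClass.coe_inv, e', ← hp, e, _root_.mul_inv_rev, mul_assoc, inv_mul_cancel_left]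
        exact mul_mem (inv_mem hv) hu
      rw [show g = X hK j (coef m p j) * ((X hK j (coef m p j))⁻¹ * g) by group]
      exact mul_mem (mem_spanBelow (Nat.lt_succ_self j) _)
        (spanBelow_mono (Nat.le_succ j) (ih hj'.le (up_step hK hj' hrest)))

theorem mem_span_of_upper {j : ℕ} (hj : j < 12) {g : ↥(grp K m)}
    (hg : (g : GL chevF4.Idx K) ∈ upper certF4C K (24 + lead j + 1)) : g ∈ spanBelow (X hK) j :=
  (span_upper hK hj.le).2 (up_step hK hj hg)

theorem X_inj {j : ℕ} (hj : j < 12) (a : K) (h : X hK j a ∈ spanBelow (X hK) j) : a = 0 := by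
  have h1 := (span_upper hK hj.le).1 h
  have h2 : (X hK j a : GL chevF4.Idx K) ∈ upper certF4C K (24 + lead j + 1) :=
    upper_anti certF4C (by have := lead_bnd j hj; omega) h1
  obtain ⟨u, hu, e⟩ := X_split hK hj a
  have := lead_lt j hj
  exact (upper_unique certF4C (k := 24 + lead j) (show 48 ≤ 2 * (24 + lead j) by omega) (show 24 + lead j < 48 by omega)
    (u := 0) hu h2 (by rw [xg_zero, one_mul]; exact e.symm)).1

theorem X_add {j : ℕ} (hj : j < 12) (a b : K) :
    (X hK j a * X hK j b)⁻¹ * X hK j (a + b) ∈ spanBelow (X hK) j := by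
  obtain ⟨u, hu, ea⟩ := X_split hK hj a
  obtain ⟨v, hv, eb⟩ := X_split hK hj b
  obtain ⟨w, hw, ec⟩ := X_split hK hj (a + b)
  have := lead_lt j hj
  refine mem_span_of_upper hK hj ?_
  have hc : xg certF4C (24 + lead j) (-b) * u * (xg certF4C (24 + lead j) (-b))⁻¹ ∈ upper certF4C K (24 + lead j + 1) :=
    conj_upper' certF4C fullCertF4.comm (show 48 ≤ 2 * (24 + lead j) by omega) _ hu
  rw [Subgroup.coe_mul, InvMemClass.coe_inv, Subgroup.coe_mul, ea, eb, ec,
    show (xg certF4C (24 + lead j) a * u * (xg certF4C (24 + lead j) b * v))⁻¹ * (xg certF4C (24 + lead j) (a + b) * w) =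
      (xg certF4C (24 + lead j) (-b) * u * (xg certF4C (24 + lead j) (-b))⁻¹ * v)⁻¹ * w by
      rw [← xg_inv, ← xg_add]; group]
  exact mul_mem (inv_mem (mul_mem hc hv)) hw

theorem X_closed {j k : ℕ} (hj : j < 12) (hk : k ≤ j) (a b : K) : ⁅X hK j a, X hK k b⁆ ∈ spanBelow (X hK) k := by
  refine mem_span_of_upper hK (by omega) ?_
  have := upper_comm hj hk (X_upper hK hj a) (X_upper hK (by omega : k < 12) b)
  exact this

/-- The torus elements. -/
noncomputable def tor (i : Kˣ × Kˣ) : ↥(grp K m) :=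
  ⟨torusHom chevF4 tblF4 K (f4Par m i.1 i.2), ((f4_mem_diag hK).2 ⟨i.1, i.2, rfl⟩).2⟩

omit hK in
/-- The weights. -/
noncomputable def lam (m : ℕ) (i : Kˣ × Kˣ) (j : ℕ) : K :=
  chr tblF4 chevF4 (extend' (f4Par m i.1 i.2)) (24 + lead j)

omit hK in
theorem torus_upper (c : Fin chevF4.rank → Kˣ) {k : ℕ} {g : GL chevF4.Idx K} (hg : g ∈ upper certF4C K k) :
    torusHom chevF4 tblF4 K c * g * (torusHom chevF4 tblF4 K c)⁻¹ ∈ upper certF4C K k := by
  have hle : upper certF4C K k ≤ (upper certF4C K k).comap (MulAut.conj (torusHom chevF4 tblF4 K c)).toMonoidHom := by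
    refine (Subgroup.closure_le _).2 ?_
    rintro _ ⟨r, t, h1, h2, rfl⟩
    show torusHom chevF4 tblF4 K c * xg certF4C r t * (torusHom chevF4 tblF4 K c)⁻¹ ∈ upper certF4C K k
    rw [f4_conj_xg c h2]
    exact xg_mem_upper certF4C h1 _
  exact hle hg

theorem X_conj (i : Kˣ × Kˣ) {j : ℕ} (hj : j < 12) (a : K) :
    (X hK j (lam m i j * a))⁻¹ * (tor hK i * X hK j a * (tor hK i)⁻¹) ∈ spanBelow (X hK) j := by
  obtain ⟨u, hu, ea⟩ := X_split hK hj a
  obtain ⟨w, hw, eb⟩ := X_split hK hj (lam m i j * a)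
  have := lead_lt j hj
  refine mem_span_of_upper hK hj ?_
  set t := torusHom chevF4 tblF4 K (f4Par m i.1 i.2)
  have hc := f4_conj_xg (f4Par m i.1 i.2) (show 24 + lead j < chevF4.nroots by show _ < 48; omega) a
  rw [Subgroup.coe_mul, Subgroup.coe_mul, Subgroup.coe_mul, InvMemClass.coe_inv, InvMemClass.coe_inv, ea, eb,
    show ((tor hK i : ↥(grp K m)) : GL chevF4.Idx K) = t from rfl,
    show t * (xg certF4C (24 + lead j) a * u) * t⁻¹ = (t * xg certF4C (24 + lead j) a * t⁻¹) * (t * u * t⁻¹) by group,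
    hc]
  rw [show lam m i j = chr tblF4 chevF4 (extend' (f4Par m i.1 i.2)) (24 + lead j) from rfl, _root_.mul_inv_rev,
    mul_assoc, inv_mul_cancel_left]
  exact mul_mem (inv_mem hw) (torus_upper _ hu)

theorem tor_comm (i i' : Kˣ × Kˣ) : Commute (tor hK i) (tor hK i') := Subtype.ext (by
  show torusHom chevF4 tblF4 K (f4Par m i.1 i.2) * torusHom chevF4 tblF4 K (f4Par m i'.1 i'.2) =
    torusHom chevF4 tblF4 K (f4Par m i'.1 i'.2) * torusHom chevF4 tblF4 K (f4Par m i.1 i.2)
  rw [← map_mul, ← map_mul, mul_comm])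

/-- The chain of layers. -/
noncomputable def chain (hmoved : ∀ j < 12, ∃ i, lam (K := K) m i j ≠ 1) : LayerChain K ↥(grp K m) where
  N := 12
  X := X hK
  ι := Kˣ × Kˣ
  t := tor hK
  lam := lam m
  add := fun j hj => X_add hK hj
  comm := tor_comm hK
  conj := fun i j hj => X_conj hK i hj
  moved := hmoved
  closed := fun j hj k hk => X_closed hK hj hk
  inj := fun j hj i a _ h => by
    have h0 := X_add hK hj (0 : K) 0
    rw [add_zero, _root_.mul_inv_rev, inv_mul_cancel_right] at h0
    rw [X_inj hK hj a h, zero_div]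
    exact inv_mem_iff.1 h0

theorem card_span : Nat.card ↥(spanBelow (X hK) 12) = (2 ^ (2 * m + 1)) ^ 12 := by
  have e : spanBelow (X hK) 12 = (chevF4.posUnipotent K ⊓ grp K m).subgroupOf (grp K m) := by
    ext g
    rw [span_upper hK le_rfl, Subgroup.mem_subgroupOf, Subgroup.mem_inf, posUnipotent_eq certF4C]
    exact ⟨fun h => ⟨h, g.2⟩, fun h => h.1⟩
  rw [e, Nat.card_congr (Subgroup.subgroupOfEquivOfLe inf_le_right).toEquiv,
    (twOKF4 (K := K) m).card_pos_fixed certF4C fullCertF4 twCombF4 (fun J hJ => f4_card_fixPart hK hJ) two_pos f4_wt]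
  rfl

end Cfsg.Lib.Chev.TwMult.Ree
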