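import Cfsg.Agent.Lib.Chev.TwMult.Ree.Levi
import Cfsg.Agent.Lib.Chev.TwMult.Ree.Roots
import Cfsg.Agent.Lib.Chev.MultSuzuki
import Cfsg.Agent.S3979

/-!
²F₄(q) as a group of rank two: the part of the multiplier prime to the characteristic vanishes.
-/

set_option autoImplicit false
set_option linter.unusedSectionVars false
set_option maxRecDepth 100000

namespace Cfsg.Lib.Chev.TwMult.Ree

open Cfsg.Lie Cfsg.Lib.Chev Cfsg.Lib.Chev.TwMult Cfsg.Lib.Chev.F4Aut
open scoped MatrixGroups Matrix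

universe u

/-- The roots of a simple orbit. -/
def orb (i : Fin 2) : List ℕ := if i = 0 then [33, 24] else [27, 25, 28, 30]

/-- The other positive roots. -/
def vL (i : Fin 2) : List ℕ :=
  if i = 0 then [25, 26, 27, 28, 29, 30, 31, 32, 34, 35, 36, 37, 38, 39, 40, 41, 42, 43, 44, 45, 46, 47]
  else [24, 26, 29, 31, 32, 33, 34, 35, 36, 37, 38, 39, 40, 41, 42, 43, 44, 45, 46, 47]

/-- The word of a simple orbit. -/
def wrd (i : Fin 2) : List ℕ := if i = 0 then [0, 3] else [1, 2, 1, 2]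

/-- The roots outside the two orbits. -/
def restL : List ℕ := [34, 26, 36, 42, 37, 32, 35, 31, 40, 46, 38, 43, 29, 41, 44, 47, 39, 45]

theorem wrd_word (i : Fin 2) : IsWord chevF4 (wrd i) := by
  fin_cases i <;> intro x hx <;> simp [wrd] at hx <;> (show x < 4) <;> omega

theorem list_facts : ∀ i : Fin 2, (∀ r ∈ orb i ++ vL i, 24 ≤ r ∧ r < 48) ∧ (orb i ++ vL i).Nodup ∧
    (∀ r ∈ vL i, wperm tblF4 (wrd i) r ∈ vL i) ∧ chkTerms tblF4 (orb i) (vL i) (vL i) = true ∧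
    chkBack tblF4 (vL i) = true ∧ (∀ r ∈ restL, r ∈ vL i) ∧ twF4.base i.val = orb i ∧ twF4.lw i.val = wrd i := by
  decide +kernel

variable {K : Type u} [Field K] [CharP K esymF4.p] [Fintype K] {m : ℕ} (hK : Fintype.card K = 2 ^ (2 * m + 1))

local instance charTwoRank1 : CharP K 2 := inferInstanceAs (CharP K esymF4.p)

/-- The index of an orbit. -/
abbrev oj (i : Fin 2) : Fin (fX hK).tw.norb := ⟨i.val, i.isLt⟩

include hK

theorem word_eq :
    wnu certF4C K [0, 3] = f4P m 33 24 1 * f4P m 14 23 1 * f4P m 33 24 1 ∧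
    wnu certF4C K [1, 2, 1, 2] = (f4Q m 27 25 28 30 1 1)⁻¹ * f4Q m 20 22 19 17 0 1 * (f4Q m 27 25 28 30 1 0)⁻¹ := by
  have h11 : (1 : K) + 1 = 0 := by linear_combination f4_two_eq_zero (K := K)
  have gmap : ∀ ls : List ℕ, ((ls.map fun r => Ltr.x r [⟨1, 0, 0⟩]).map (Ltr.gl certF4C (F := K))).prod =
      (ls.map fun r => xg certF4C r (1 : K)).prod := by
    intro ls
    induction ls with
    | nil => rfl
    | cons r ls ih =>
      rw [List.map_cons, List.map_cons, List.prod_cons, ih, List.map_cons, List.prod_cons]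
      simp [Ltr.gl, pval, Mono.val]
  have e0 := gl_eq_of_sameWordMod (F := K) (p := 2) (w₁ := [33, 24, 14, 23, 33, 24].map fun r => Ltr.x r [⟨1, 0, 0⟩])
    (w₂ := [0, 3].map fun i => Ltr.n i ⟨1, 0, 0⟩) certF4C (f4_word_ok (by decide)) (f4_nword_ok (by decide)) f4_id0
  rw [gmap, gl_wnu] at e0
  have e1 := gl_eq_of_sameWordMod (F := K) (p := 2) certF4C (f4_word_ok (by decide))
    (fun L hL => by
      rcases List.mem_append.1 hL with hL | hL
      · rcases List.mem_append.1 hL with hL | hL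
        · exact f4_word_ok (by decide) L hL
        · exact f4_nword_ok (by decide) L hL
      · exact f4_word_ok (by decide) L hL) f4_id1
  rw [List.map_append, List.map_append, List.prod_append, List.prod_append, gmap, gmap, gmap, gl_wnu] at e1
  have p1 : xg certF4C 33 (1 : K) * xg certF4C 24 1 = f4P m 33 24 1 := by simp [f4P, f4Pair]
  have p2 : xg certF4C 14 (1 : K) * xg certF4C 23 1 = f4P m 14 23 1 := by simp [f4P, f4Pair]
  have q1 : xg certF4C 19 (1 : K) * xg certF4C 17 1 = f4Q m 20 22 19 17 0 1 := by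
    simp [f4Q, f4Quad, xg_zero, zero_pow]
  have q2 : xg certF4C 27 (1 : K) * (xg certF4C 25 1 * xg certF4C 30 1) = f4Q m 27 25 28 30 1 1 := by
    simp [f4Q, f4Quad, h11, xg_zero, mul_assoc]
  have q3 : xg certF4C 27 (1 : K) * (xg certF4C 25 1 * xg certF4C 28 1) = f4Q m 27 25 28 30 1 0 := by
    simp [f4Q, f4Quad, xg_zero, mul_assoc]
  simp only [List.map_cons, List.map_nil, List.prod_cons, List.prod_nil, mul_one] at e0 e1
  rw [q1, q2, q3] at e1
  refine ⟨?_, ?_⟩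
  · rw [← e0, ← p1, ← p2]; group
  · rw [e1]; group

theorem wrd_mem (i : Fin 2) : wnu certF4C K (wrd i) ∈ grp K m := by
  fin_cases i
  · show wnu certF4C K [0, 3] ∈ _
    rw [(word_eq hK).1]
    exact mul_mem (mul_mem (f4P_fixed hK chkF4PairPos 1) (f4P_fixed hK chkF4PairNeg 1)) (f4P_fixed hK chkF4PairPos 1)
  · show wnu certF4C K [1, 2, 1, 2] ∈ _
    rw [(word_eq hK).2]
    exact mul_mem (mul_mem (inv_mem (f4Q_fixed hK chkF4QuadPos 1 1)) (f4Q_fixed hK chkF4QuadNeg 0 1))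
      (inv_mem (f4Q_fixed hK chkF4QuadPos 1 0))

/-- The Weyl element of a simple orbit. -/
noncomputable def nEl (i : Fin 2) : ↥(grp K m) := ⟨wnu certF4C K (wrd i), wrd_mem hK i⟩

omit hK in
/-- The diagonal subgroup. -/
noncomputable def hEl (K : Type*) [Field K] [CharP K esymF4.p] (m : ℕ) : Subgroup ↥(grp K m) :=
  (chevF4.diagonalSubgroup K).subgroupOf (grp K m)

omit hK in
/-- The unipotent subgroup. -/
noncomputable def uEl (K : Type*) [Field K] [CharP K esymF4.p] (m : ℕ) : Subgroup ↥(grp K m) :=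
  (chevF4.posUnipotent K).subgroupOf (grp K m)

omit hK in
/-- The complement of a simple orbit. -/
noncomputable def vEl (K : Type*) [Field K] [CharP K esymF4.p] (m : ℕ) (i : Fin 2) : Subgroup ↥(grp K m) :=
  (rootClosure certF4C K (vL i)).subgroupOf (grp K m)

/-- The positive orbit subgroup. -/
noncomputable def xEl (i : Fin 2) : Subgroup ↥(grp K m) := (fX hK).Xp i.val

/-- The negative orbit subgroup. -/
noncomputable def yEl (i : Fin 2) : Subgroup ↥(grp K m) := (xEl hK i).map (MulAut.conj (nEl hK i)).toMonoidHom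

theorem mem_x {i : Fin 2} {g : ↥(grp K m)} : g ∈ xEl hK i ↔ (g : GL chevF4.Idx K) ∈ Pset certF4C (orb i) := by
  rw [← (list_facts i).2.2.2.2.2.2.1]
  exact (fX hK).mem_Xp (J := i.val) i.isLt

theorem mem_x0 {g : ↥(grp K m)} : g ∈ xEl hK 0 ↔ ∃ t, g = eP hK t := mem_Xp0 hK

theorem mem_x1 {g : ↥(grp K m)} : g ∈ xEl hK 1 ↔ ∃ t u, g = eQ hK t u := mem_Xp1 hK

theorem mem_y {i : Fin 2} {g : ↥(grp K m)}
    (hg : (g : GL chevF4.Idx K) ∈ Pset certF4C ((orb i).map (wperm tblF4 (wrd i)))) : g ∈ yEl hK i := by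
  refine ⟨(nEl hK i)⁻¹ * g * nEl hK i, (mem_x hK).2 ?_, by show nEl hK i * _ * (nEl hK i)⁻¹ = g; group⟩
  refine (mono_conj_pset certF4C (wrd_word i) (n := wnu certF4C K (wrd i)) (by rw [inv_mul_cancel]; exact one_mem _)
    (fun r hr => ((list_facts i).1 r (List.mem_append_left _ hr)).2)).2 ?_
  simpa [nEl, mul_assoc] using hg

omit hK in
theorem mono_closure {w : List ℕ} (hw : IsWord chevF4 w) {n : GL chevF4.Idx K}
    (hd : (wnu certF4C K w)⁻¹ * n ∈ chevF4.diagonalSubgroup K) {l l' : List ℕ} (hl : ∀ r ∈ l, r < chevF4.nroots)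
    (hlm : ∀ r ∈ l, wperm tblF4 w r ∈ l') {g : GL chevF4.Idx K} (hg : g ∈ rootClosure certF4C K l) :
    n * g * n⁻¹ ∈ rootClosure certF4C K l' := by
  have hle : rootClosure certF4C K l ≤ (rootClosure certF4C K l').comap (MulAut.conj n).toMonoidHom := by
    refine (Subgroup.closure_le _).2 ?_
    rintro _ ⟨r, hr, t, rfl⟩
    have h1 : xg certF4C r t ∈ Pset certF4C (F := K) [r] := ⟨fun _ => t, by simp [lprod]⟩
    obtain ⟨u, hu⟩ := (mono_conj_pset certF4C hw hd (fun x hx => by simp at hx; exact hx ▸ hl r hr)).1 h1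
    show n * xg certF4C r t * n⁻¹ ∈ rootClosure certF4C K l'
    rw [hu]
    simp only [List.map_cons, List.map_nil, lprod, List.prod_cons, List.prod_nil, mul_one]
    exact xg_mem_rootClosure certF4C (hlm r hr) _
  exact hle hg

omit hK in
theorem pset_sub_pos {l : List ℕ} (hl : ∀ r ∈ l, 24 ≤ r) {g : GL chevF4.Idx K} (hg : g ∈ Pset certF4C l) :
    g ∈ chevF4.posUnipotent K :=
  pset_pos certF4C (fun r hr => show 48 / 2 ≤ r by have := hl r hr; omega) hg

omit hK in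
theorem closure_pos {l : List ℕ} (hl : ∀ r ∈ l, 24 ≤ r ∧ r < 48) {g : GL chevF4.Idx K}
    (hg : g ∈ rootClosure certF4C K l) : g ∈ chevF4.posUnipotent K := by
  refine (Subgroup.closure_le _).2 ?_ hg
  rintro _ ⟨r, hr, t, rfl⟩
  exact xg_mem_pos certF4C (hl r hr).2 (show 48 ≤ 2 * r by have := hl r hr; omega) t

theorem x_le (i : Fin 2) : xEl hK i ≤ uEl K m := fun _ hg =>
  pset_sub_pos (fun r hr => ((list_facts i).1 r (List.mem_append_left _ hr)).1) ((mem_x hK).1 hg)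

omit hK in
theorem v_le (i : Fin 2) : vEl K m i ≤ uEl K m := fun _ hg =>
  closure_pos (fun r hr => (list_facts i).1 r (List.mem_append_right _ hr)) hg

theorem x_meet_v {i : Fin 2} {g : ↥(grp K m)} (hx : g ∈ xEl hK i) (hv : g ∈ vEl K m i) : g = 1 := by
  obtain ⟨t, ht⟩ := (mem_x hK).1 hx
  obtain ⟨hl, hnd, -, -, hback, -⟩ := list_facts i
  obtain ⟨u, hu⟩ := rootClosure_subset_pset certF4C fullCertF4.comm hback (List.Nodup.of_append_right hnd)
    (fun r hr => (hl r (List.mem_append_right _ hr)).2) hv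
  obtain ⟨-, -, hdisj⟩ := List.nodup_append.1 hnd
  let T1 : ℕ → K := fun r => if r ∈ orb i then t r else 0
  let T2 : ℕ → K := fun r => if r ∈ orb i then 0 else u r
  have e : lprod certF4C (orb i ++ vL i) T1 = lprod certF4C (orb i ++ vL i) T2 := by
    have a1 : lprod certF4C (vL i) T1 = 1 :=
      (lprod_congr certF4C fun r hr => if_neg fun h => hdisj r h r hr rfl).trans (lprod_zero certF4C _)
    have a2 : lprod certF4C (orb i) T2 = 1 :=
      (lprod_congr certF4C fun r hr => if_pos hr).trans (lprod_zero certF4C _)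
    rw [lprod_append, lprod_append, a1, a2, mul_one, one_mul, lprod_congr certF4C (t := T1) (u := t) fun r hr => if_pos hr,
      lprod_congr certF4C (t := T2) (u := u) fun r hr => if_neg fun h => hdisj r h r hr rfl, ← ht, ← hu]
    rfl
  have h0 : ∀ r ∈ orb i, t r = 0 := fun r hr => by
    have := lprod_inj certF4C fullCertF4.comm hnd (fun s hs => show 48 / 2 ≤ s ∧ s < 48 by
      have := hl s hs; omega) e r (List.mem_append_left _ hr)
    simpa [T1, T2, hr] using this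
  refine Subtype.ext ?_
  rw [ht, lprod_congr certF4C h0, lprod_zero]
  rfl

/-- The unipotent elements through their parameters. -/
theorem u_param {g : ↥(grp K m)} (hg : g ∈ uEl K m) : ∃ p : FParam K, p.el m = g ∧
    ∀ i, (eP hK p.a * eQ hK p.b p.b' : ↥(grp K m))⁻¹ * g ∈ vEl K m i := by
  obtain ⟨p, hp⟩ := fU_surj hK (x := (g : GL chevF4.Idx K)) ⟨hg, g.2⟩
  refine ⟨p, hp, fun i => ?_⟩
  show (f4P m 33 24 p.a * f4Q m 27 25 28 30 p.b p.b')⁻¹ * (g : GL chevF4.Idx K) ∈ rootClosure certF4C K (vL i)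
  have e := p.el_eq m
  rw [hp] at e
  rw [e]
  simp only [mul_assoc, inv_mul_cancel_left]
  refine rootClosure_mono certF4C (list_facts i).2.2.2.2.2.1 ?_
  simp only [mul_inv_rev, mul_assoc, inv_mul_cancel_left]
  have hx : ∀ r ∈ restL, ∀ t : K, xg certF4C r t ∈ rootClosure certF4C K restL := fun r hr t =>
    xg_mem_rootClosure certF4C hr t
  simp only [f4P, f4Pair, f4Q, f4Quad]
  repeat' apply mul_mem
  all_goals exact hx _ (by decide) _

theorem split_u (i : Fin 2) {g : ↥(grp K m)} (hg : g ∈ uEl K m) : ∃ v ∈ vEl K m i, ∃ x ∈ xEl hK i, g = v * x := by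
  obtain ⟨p, -, hR⟩ := u_param hK hg
  set R := (eP hK p.a * eQ hK p.b p.b' : ↥(grp K m))⁻¹ * g
  have hgR : g = eP hK p.a * eQ hK p.b p.b' * R := by simp only [R]; group
  obtain ⟨hl, -, -, hchk, -⟩ := list_facts i
  have conjv : ∀ x ∈ xEl hK i, ∀ v ∈ vEl K m i, x * v * x⁻¹ ∈ vEl K m i := fun x hx v hv => by
    obtain ⟨t, ht⟩ := (mem_x hK).1 hx
    exact (rootClosure_conj certF4C fullCertF4.comm hchk (fun r hr => (hl r (List.mem_append_left _ hr)).2)
      (fun r hr => (hl r (List.mem_append_right _ hr)).2) (ht ▸ lprod_mem_rootClosure certF4C _ t)).1 _ hv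
  fin_cases i
  · have hP : eP hK p.a ∈ xEl hK 0 := (mem_x0 hK).2 ⟨_, rfl⟩
    have hQ : eQ hK p.b p.b' ∈ vEl K m 0 := by
      show f4Q m 27 25 28 30 p.b p.b' ∈ rootClosure certF4C K (vL 0)
      simp only [f4Q, f4Quad]
      repeat' apply mul_mem
      all_goals exact xg_mem_rootClosure certF4C (by decide) _
    exact ⟨_, conjv _ hP _ (mul_mem hQ (hR 0)), _, hP, by rw [hgR]; group⟩
  · have hQ : eQ hK p.b p.b' ∈ xEl hK 1 := (mem_x1 hK).2 ⟨_, _, rfl⟩
    have hP : eP hK p.a ∈ vEl K m 1 := by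
      show f4P m 33 24 p.a ∈ rootClosure certF4C K (vL 1)
      simp only [f4P, f4Pair]
      repeat' apply mul_mem
      all_goals exact xg_mem_rootClosure certF4C (by decide) _
    exact ⟨_, mul_mem hP (conjv _ hQ _ (hR 1)), _, hQ, by rw [hgR]; group⟩

theorem v_param {i : Fin 2} {g : ↥(grp K m)} (hg : g ∈ vEl K m i) {p : FParam K} (hp : p.el m = g) :
    (i = 0 → p.a = 0) ∧ (i = 1 → p.b = 0 ∧ p.b' = 0) := by
  obtain ⟨p', hp', hR⟩ := u_param hK (v_le i hg)
  obtain rfl : p = p' := FParam.el_inj (hp.trans hp'.symm)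
  have h : eP hK p.a * eQ hK p.b p.b' ∈ vEl K m i := by
    rw [show eP hK p.a * eQ hK p.b p.b' = g * ((eP hK p.a * eQ hK p.b p.b' : ↥(grp K m))⁻¹ * g)⁻¹ by group]
    exact mul_mem hg (inv_mem (hR i))
  constructor
  · rintro rfl
    have hQ : eQ hK p.b p.b' ∈ vEl K m 0 := by
      show f4Q m 27 25 28 30 p.b p.b' ∈ rootClosure certF4C K (vL 0)
      simp only [f4Q, f4Quad]
      repeat' apply mul_mem
      all_goals exact xg_mem_rootClosure certF4C (by decide) _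
    refine eP_inj hK ((x_meet_v hK ((mem_x0 hK).2 ⟨_, rfl⟩) ?_).trans (eP_zero hK).symm)
    simpa using mul_mem h (inv_mem hQ)
  · rintro rfl
    have hP : eP hK p.a ∈ vEl K m 1 := by
      show f4P m 33 24 p.a ∈ rootClosure certF4C K (vL 1)
      simp only [f4P, f4Pair]
      repeat' apply mul_mem
      all_goals exact xg_mem_rootClosure certF4C (by decide) _
    refine eQ_inj hK ((x_meet_v hK ((mem_x1 hK).2 ⟨_, _, rfl⟩) ?_).trans (eQ_zero hK).symm)
    simpa using mul_mem (inv_mem hP) h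

theorem n_sq (i : Fin 2) : nEl hK i * nEl hK i ∈ hEl K m := by
  show wnu certF4C K (wrd i) * wnu certF4C K (wrd i) ∈ chevF4.diagonalSubgroup K
  rw [← wnu_append]
  have hid : ∀ i : Fin 2, ∀ k < 4, wperm tblF4 [] (tblF4.simp' k) = wperm tblF4 (wrd i ++ wrd i) (tblF4.simp' k) := by
    decide +kernel
  have := same_of_perm certF4C fullCertF4 (F := K) (v := []) (w := wrd i ++ wrd i)
    (fun x hx => absurd hx List.not_mem_nil) ((wrd_word i).append (wrd_word i)) (hid i)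
  simpa [wnu] using this

theorem n_conj_H (i : Fin 2) {h : ↥(grp K m)} (hh : h ∈ hEl K m) : nEl hK i * h * (nEl hK i)⁻¹ ∈ hEl K m :=
  (conj_mem_diag certF4C (wnu_mem certF4C (wrd_word i)) hh).1

theorem n_conj_H' (i : Fin 2) {h : ↥(grp K m)} (hh : h ∈ hEl K m) : (nEl hK i)⁻¹ * h * nEl hK i ∈ hEl K m :=
  (conj_mem_diag certF4C (wnu_mem certF4C (wrd_word i)) hh).2

theorem conj_x (i : Fin 2) {h x : ↥(grp K m)} (hh : h ∈ hEl K m) (hx : x ∈ xEl hK i) : h * x * h⁻¹ ∈ xEl hK i := by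
  obtain ⟨p, rfl⟩ := exists_eH hK hh
  fin_cases i
  · obtain ⟨t, rfl⟩ := (mem_x0 hK).1 hx
    exact (mem_x0 hK).2 ⟨_, eH_conj_P hK p t⟩
  · obtain ⟨t, u, rfl⟩ := (mem_x1 hK).1 hx
    exact (mem_x1 hK).2 ⟨_, _, eH_conj_Q hK p t u⟩

theorem conj_y (i : Fin 2) {h y : ↥(grp K m)} (hh : h ∈ hEl K m) (hy : y ∈ yEl hK i) : h * y * h⁻¹ ∈ yEl hK i := by
  obtain ⟨x, hx, rfl⟩ := hy
  refine ⟨_, conj_x hK i (n_conj_H' hK i hh) hx, ?_⟩
  show nEl hK i * _ * (nEl hK i)⁻¹ = h * (nEl hK i * x * (nEl hK i)⁻¹) * h⁻¹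
  group

theorem n_X (i : Fin 2) {x : ↥(grp K m)} (hx : x ∈ xEl hK i) : nEl hK i * x * (nEl hK i)⁻¹ ∈ yEl hK i := ⟨x, hx, rfl⟩

theorem n_mem (i : Fin 2) : nEl hK i ∈ Subgroup.closure ((xEl hK i : Set ↥(grp K m)) ∪ yEl hK i) := by
  set L := Subgroup.closure ((xEl hK i : Set ↥(grp K m)) ∪ yEl hK i)
  have hxL : ∀ x ∈ xEl hK i, x ∈ L := fun x hx => Subgroup.subset_closure (Or.inl hx)
  have hyL : ∀ x ∈ yEl hK i, x ∈ L := fun x hx => Subgroup.subset_closure (Or.inr hx)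
  fin_cases i
  · let P' : ↥(grp K m) := ⟨f4P m 14 23 1, f4P_fixed hK chkF4PairNeg 1⟩
    have e : nEl hK 0 = eP hK 1 * P' * eP hK 1 := Subtype.ext (word_eq hK).1
    have hP' : P' ∈ yEl hK 0 := mem_y hK (by
      rw [show (orb 0).map (wperm tblF4 (wrd 0)) = [14, 23] by decide +kernel]
      exact ⟨fun r => if r = 14 then 1 else 1, by simp [P', f4P, f4Pair, lprod]⟩)
    show nEl hK 0 ∈ L
    rw [e]
    exact mul_mem (mul_mem (hxL _ ((mem_x0 hK).2 ⟨_, rfl⟩)) (hyL _ hP')) (hxL _ ((mem_x0 hK).2 ⟨_, rfl⟩))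
  · let Q' : ↥(grp K m) := ⟨f4Q m 20 22 19 17 0 1, f4Q_fixed hK chkF4QuadNeg 0 1⟩
    have e : nEl hK 1 = (eQ hK 1 1)⁻¹ * Q' * (eQ hK 1 0)⁻¹ := Subtype.ext (word_eq hK).2
    have hQ' : Q' ∈ yEl hK 1 := mem_y hK (by
      rw [show (orb 1).map (wperm tblF4 (wrd 1)) = [20, 22, 19, 17] by decide +kernel]
      exact ⟨fun r => if r = 20 then 0 else if r = 22 then 0 else 1, by
        simp [Q', f4Q, f4Quad, lprod, xg_zero, zero_pow]⟩)
    show nEl hK 1 ∈ L
    rw [e]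
    exact mul_mem (mul_mem (inv_mem (hxL _ ((mem_x1 hK).2 ⟨_, _, rfl⟩))) (hyL _ hQ'))
      (inv_mem (hxL _ ((mem_x1 hK).2 ⟨_, _, rfl⟩)))

/-- A character as a product over the simple roots. -/
theorem chi_comb (p : Kˣ × Kˣ) (r : ℕ) (a b c d : ℤ)
    (h : ∀ k < 4, tblF4.cartan k r =
      a * tblF4.cartan k 33 + b * tblF4.cartan k 27 + c * tblF4.cartan k 25 + d * tblF4.cartan k 24) :
    χ m r p = χ m 33 p ^ a * χ m 27 p ^ b * χ m 25 p ^ c * χ m 24 p ^ d := by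
  simp only [χ_eq hK, ← Units.val_zpow_eq_zpow_val, ← Units.val_mul]
  congr 1
  rw [h 0 (by norm_num), h 1 (by norm_num), h 2 (by norm_num), h 3 (by norm_num)]
  obtain ⟨v, s⟩ := p
  simp only [mul_zpow, ← zpow_mul]
  have gat : ∀ (a₁ b₁ a₂ b₂ : ℤ), v ^ a₁ * s ^ b₁ * (v ^ a₂ * s ^ b₂) = v ^ (a₁ + a₂) * s ^ (b₁ + b₂) :=
    fun a₁ b₁ a₂ b₂ => by rw [zpow_add, zpow_add]; exact mul_mul_mul_comm _ _ _ _
  rw [gat, gat, gat]
  congr 2 <;> ring

theorem chi_long (p : Kˣ × Kˣ) : χ m 33 p = χ m 24 p ^ 2 ^ m ∧ χ m 27 p = χ m 25 p ^ 2 ^ m := by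
  have hc : [33, 24, 27, 25].map (fun r => (List.range 4).map fun i => tblF4.cartan i r) =
      [[2, -1, 0, 0], [0, 0, -1, 2], [-1, 2, -1, 0], [0, -2, 2, -1]] := by decide +kernel
  simp only [List.map_cons, List.map_nil, List.range_succ, List.range_zero, List.cons.injEq, and_true,
    List.nil_append, List.cons_append] at hc
  obtain ⟨v, s⟩ := p
  have hs : s ^ ((2 : ℤ) ^ m * (2 * 2 ^ m)) = s := by
    rw [show ((2 : ℤ) ^ m * (2 * 2 ^ m)) = ((2 ^ m * (2 ^ m * 2) : ℕ) : ℤ) by push_cast; ring, zpow_natCast, pow_mul]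
    exact Units.ext (by rw [Units.val_pow_eq_pow_val, Units.val_pow_eq_pow_val]; exact f4_theta hK _)
  constructor <;> simp only [χ_eq hK, hc, ← Units.val_pow_eq_pow_val] <;> congr 1 <;>
    rw [← zpow_natCast, mul_zpow, ← zpow_mul, ← zpow_mul] <;> push_cast
  · congr 2 <;> ring
  · congr 1
    · congr 1; ring
    · calc s ^ ((2 : ℤ) ^ m * 2 + -1) = s ^ (((2 : ℤ) ^ m * -2 + 2) * 2 ^ m) * s ^ ((2 : ℤ) ^ m * (2 * 2 ^ m)) * s⁻¹ := by
            rw [← zpow_neg_one s, ← zpow_add, ← zpow_add]; congr 1; ring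
        _ = _ := by rw [hs, mul_inv_cancel_right]

theorem lw_chi : ∀ i : Fin 2, ∀ r ∈ orb i ++ (orb i).map (wperm tblF4 (wrd i)), r < 48 ∧
    ∃ a ∈ [(0 : ℤ), 1, -1, 2, -2], ∃ b ∈ [(0 : ℤ), 1, -1, 2, -2], ∀ k < 4, tblF4.cartan k r =
      if i = 0 then a * tblF4.cartan k 33 + 0 * tblF4.cartan k 27 + 0 * tblF4.cartan k 25 + b * tblF4.cartan k 24
      else 0 * tblF4.cartan k 33 + a * tblF4.cartan k 27 + b * tblF4.cartan k 25 + 0 * tblF4.cartan k 24 := by
  decide +kernel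

omit hK in
/-- The coefficients of the leading roots in the simple roots. -/
def cof : ℕ → ℕ × ℕ × ℕ × ℕ
  | 0 => (2, 3, 2, 1)
  | 1 => (1, 3, 2, 1)
  | 2 => (1, 2, 2, 1)
  | 3 => (1, 2, 1, 1)
  | 4 => (1, 1, 1, 1)
  | 5 => (0, 2, 2, 1)
  | 6 => (0, 2, 1, 1)
  | 7 => (0, 1, 1, 1)
  | 8 => (0, 1, 1, 0)
  | 9 => (0, 0, 1, 1)
  | 10 => (0, 0, 1, 0)
  | _ => (0, 0, 0, 1)

omit hK in
theorem cof_spec : ∀ j < 12, ∀ k < 4, tblF4.cartan k (24 + lead j) =
    ((cof j).1 : ℤ) * tblF4.cartan k 33 + ((cof j).2.1 : ℤ) * tblF4.cartan k 27 +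
      ((cof j).2.2.1 : ℤ) * tblF4.cartan k 25 + ((cof j).2.2.2 : ℤ) * tblF4.cartan k 24 := by decide +kernel

omit hK in
theorem cof_bound : ∀ j < 12,
    (j ≠ 11 → (cof j).2.1 ≤ 3 ∧ (cof j).2.2.1 ≤ 2 ∧ (cof j).2.1 + (cof j).2.2.1 ≠ 0 ∧
      2 * (cof j).2.1 + (cof j).2.2.1 ≠ 7) ∧
    (j ≠ 10 → j ≠ 8 → (cof j).1 ≤ 3 ∧ (cof j).2.2.2 ≤ 2 ∧ (cof j).1 + (cof j).2.2.2 ≠ 0 ∧
      2 * (cof j).1 + (cof j).2.2.2 ≠ 7) := by
  intro j hj
  interval_cases j <;> exact ⟨fun _ => by simp_all [cof], fun _ _ => by simp_all [cof]⟩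

/-- A torus element centralising a rank one subgroup and moving every other layer. -/
theorem exists_mover (hm : 1 ≤ m) (i : Fin 2) : ∃ p : Kˣ × Kˣ,
    (∀ r ∈ orb i ++ (orb i).map (wperm tblF4 (wrd i)), χ m r p = 1) ∧
    ∀ j < 12, (i = 0 → j ≠ 11) → (i = 1 → j ≠ 10 ∧ j ≠ 8) → χ m (24 + lead j) p ≠ 1 := by
  obtain ⟨w, hw⟩ := MultW.exists_gen K
  rw [hK] at hw
  obtain ⟨p, hp⟩ := (lam_bijective hK).2 (if i = 0 then ((1 : Kˣ), w) else (w, 1))
  have h24 : χ m 24 p = if i = 0 then (1 : K) else w := by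
    rw [show χ m 24 p = ((F4Aut.lam hK p).1 : K) from rfl, hp]
    fin_cases i <;> simp
  have h25 : χ m 25 p = if i = 0 then (w : K) else 1 := by
    rw [show χ m 25 p = ((F4Aut.lam hK p).2 : K) from rfl, hp]
    fin_cases i <;> simp
  obtain ⟨h33, h27⟩ := chi_long hK p
  refine ⟨p, fun r hr => ?_, fun j hj h0 h1 => ?_⟩
  · obtain ⟨-, a, -, b, -, hab⟩ := lw_chi hK i r hr
    fin_cases i
    · rw [chi_comb hK p r a 0 0 b hab, h33, h24]; simp
    · rw [chi_comb hK p r 0 a b 0 hab, h27, h25]; simp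
  · rw [chi_comb hK p _ _ _ _ _ (cof_spec j hj), h33, h27, h24, h25]
    simp only [zpow_natCast, ← pow_mul]
    have key : ∀ e, (w : K) ^ e = 1 → 2 ^ (2 * m + 1) - 1 ∣ e := fun e he => by
      rw [← hw]; exact orderOf_dvd_of_pow_eq_one (Units.ext (by simpa using he))
    have hq : ∀ e, e ≤ 3 * 2 ^ m + 2 → e ≠ 0 → (m = 1 → e ≠ 7) → ¬ 2 ^ (2 * m + 1) - 1 ∣ e := by
      intro e he he0 he7 hd
      have hle := Nat.le_of_dvd (Nat.pos_of_ne_zero he0) hd
      rcases eq_or_lt_of_le hm with rfl | hm2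
      · norm_num at he hd hle
        have := he7 rfl
        omega
      · have h4 : 4 ≤ 2 ^ m := le_trans (by norm_num) (Nat.pow_le_pow_right (show 1 ≤ 2 by norm_num) hm2)
        have hsq : 2 ^ (2 * m + 1) = 2 * (2 ^ m * 2 ^ m) := by ring
        have h16 : 4 * 2 ^ m ≤ 2 ^ m * 2 ^ m := Nat.mul_le_mul_right _ h4
        omega
    have hT2 : 2 ≤ 2 ^ m := Nat.le_self_pow (by omega) 2
    have hm1 : m = 1 → 2 ^ m = 2 := fun h => by rw [h]; rfl
    intro he
    fin_cases i <;> simp only [Fin.zero_eta, Fin.mk_one, one_ne_zero, if_true, if_false, one_pow, one_mul, mul_one,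
      ← pow_add] at he
    · obtain ⟨b1, b2, b3, b4⟩ := (cof_bound j hj).1 (h0 rfl)
      have hb := Nat.mul_le_mul_left (2 ^ m) b1
      refine hq _ (by omega) ?_ (fun h => ?_) (key _ he)
      · rcases Nat.eq_zero_or_pos (cof j).2.1 with h | h
        · omega
        · have := Nat.mul_pos (Nat.two_pow_pos m) h; omega
      · rw [hm1 h]; exact b4
    · obtain ⟨b1, b2, b3, b4⟩ := (cof_bound j hj).2 (h1 rfl).1 (h1 rfl).2
      have hb := Nat.mul_le_mul_left (2 ^ m) b1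
      refine hq _ (by omega) ?_ (fun h => ?_) (key _ he)
      · rcases Nat.eq_zero_or_pos (cof j).1 with h | h
        · omega
        · have := Nat.mul_pos (Nat.two_pow_pos m) h; omega
      · rw [hm1 h]; exact b4

/-- Nothing in the complement is centralised by the mover. -/
theorem v_fixed (hm : 1 ≤ m) {i : Fin 2} {p : Kˣ × Kˣ}
    (hp : ∀ j < 12, (i = 0 → j ≠ 11) → (i = 1 → j ≠ 10 ∧ j ≠ 8) → χ m (24 + lead j) p ≠ 1)
    {g : ↥(grp K m)} (hg : g ∈ vEl K m i) (hc : eH hK p * g * (eH hK p)⁻¹ = g) : g = 1 := by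
  obtain ⟨q, hq⟩ := fU_surj hK (x := (g : GL chevF4.Idx K)) ⟨v_le i hg, g.2⟩
  obtain ⟨ha, hb⟩ := v_param hK hg hq
  have hall : ∀ d j, 12 - j = d → j < 12 → coef m q j = 0 := by
    intro d
    induction d using Nat.strong_induction_on with
    | _ d ih =>
      intro j hd hj
      by_cases h0 : i = 0 ∧ j = 11
      · obtain ⟨h0, rfl⟩ := h0
        exact ha h0
      by_cases h1 : i = 1 ∧ (j = 10 ∨ j = 8)
      · obtain ⟨h1, rfl | rfl⟩ := h1
        exacts [(hb h1).1, (hb h1).2]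
      by_contra hne
      obtain ⟨w, hw, e⟩ := el_split (m := m) q hj fun k h2 h3 => ih (12 - k) (by omega) k rfl h3
      refine hp j hj (fun h hh => h0 ⟨h, hh⟩) (fun h => ⟨fun hh => h1 ⟨h, Or.inl hh⟩, fun hh => h1 ⟨h, Or.inr hh⟩⟩) ?_
      rw [hq] at e
      have hlt := lead_lt j hj
      have e2 := congrArg Subtype.val hc
      simp only [Subgroup.coe_mul, InvMemClass.coe_inv] at e2
      set z : GL chevF4.Idx K := (eH hK p : GL chevF4.Idx K)
      rw [e, show z * (xg certF4C (24 + lead j) (coef m q j) * w) * z⁻¹ =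
        (z * xg certF4C (24 + lead j) (coef m q j) * z⁻¹) * (z * w * z⁻¹) by group,
        eH_conj_xg hK p (show 24 + lead j < chevF4.nroots by show _ < 48; omega)] at e2
      have := (upper_unique certF4C (k := 24 + lead j) (show 48 ≤ 2 * (24 + lead j) by omega)
        (show 24 + lead j < 48 by omega) (torus_upper (f4Par m p.1 p.2) hw) hw e2).1
      exact mul_right_cancel₀ hne (this.trans (one_mul _).symm)
  refine Subtype.ext ?_
  rw [← hq, el_eq_one hK q fun j hj => hall _ j rfl hj]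
  rfl

theorem rep_diag (i : Fin 2) : (nEl hK i)⁻¹ * (fX hK).rep (oj hK i) ∈ hEl K m := by
  show (wnu certF4C K (wrd i))⁻¹ * ((fX hK).rep (oj hK i) : GL chevF4.Idx K) ∈ chevF4.diagonalSubgroup K
  have := (fX hK).rep_spec (oj hK i)
  rwa [show (fX hK).tw.lw (oj hK i).val = wrd i from (list_facts i).2.2.2.2.2.2.2] at this

theorem dec (hm : 1 ≤ m) (i : Fin 2) {y : ↥(grp K m)} (hy : y ∈ yEl hK i) :
    ∃ x₁ ∈ xEl hK i, ∃ h ∈ hEl K m, (y = x₁ * h) ∨ ∃ x₂ ∈ xEl hK i, y = x₁ * h * nEl hK i * x₂ := by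
  rcases eq_or_ne y 1 with rfl | hy1
  · exact ⟨1, one_mem _, 1, one_mem _, Or.inl (by rw [one_mul])⟩
  set n := nEl hK i
  set R := (fX hK).rep (oj hK i)
  have hd := rep_diag hK i
  obtain ⟨x, hx, hxy⟩ := hy
  have hy' : y ∈ (fX hK).Xn (oj hK i) := by
    refine ⟨(n⁻¹ * R)⁻¹ * x * ((n⁻¹ * R)⁻¹)⁻¹, conj_x hK i (inv_mem hd) hx, ?_⟩
    rw [← hxy]
    show R * _ * R⁻¹ = n * x * n⁻¹
    group
  obtain ⟨b, hb, c, hc, hyc⟩ :=
    (fX hK).cell_form ((fX hK).Xn_cell twLinkedF4 Nat.two_pos hy' hy1)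
  have he : R * n⁻¹ ∈ hEl K m := by
    rw [show R * n⁻¹ = n * (n⁻¹ * R) * n⁻¹ by group]
    exact n_conj_H hK i hd
  have hbe : b * (R * n⁻¹) ∈ (fX hK).borT := mul_mem hb (Subgroup.mem_sup_right he)
  obtain ⟨u, hu, huG, d, hdd, hdG, ebd⟩ := (fX hK).borel_split (Subgroup.mem_subgroupOf.1 hbe) (b * (R * n⁻¹)).2
  let U' : ↥(grp K m) := ⟨u, huG⟩
  let D' : ↥(grp K m) := ⟨d, hdG⟩
  have ebd' : b * (R * n⁻¹) = U' * D' := Subtype.ext ebd
  obtain ⟨v, hv, x₁, hx₁, eu⟩ := split_u hK i (g := U') hu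
  have key : y = v * (x₁ * D' * n * c) := by
    rw [hyc, show b * R * c = b * (R * n⁻¹) * n * c by group, ebd', eu]; group
  have hv1 : v = 1 := by
    obtain ⟨p, hp1, hp2⟩ := exists_mover hK hm i
    refine v_fixed hK hm hp2 hv ?_
    set z := eH hK p
    have hz : z ∈ hEl K m := eH_mem hK p
    have cP : ∀ {g : ↥(grp K m)} (l : List ℕ), (g : GL chevF4.Idx K) ∈ Pset certF4C l →
        (∀ r ∈ l, r < 48 ∧ χ m r p = 1) → g ∈ Subgroup.centralizer ({z} : Set ↥(grp K m)) := by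
      intro g l hg hl
      obtain ⟨t, ht⟩ := hg
      refine Subgroup.mem_centralizer_singleton_iff.2 (Subtype.ext ?_)
      show Commute (g : GL chevF4.Idx K) (z : GL chevF4.Idx K)
      rw [ht, lprod]
      refine Commute.list_prod_left _ _ fun w hw => ?_
      obtain ⟨r, hr, rfl⟩ := List.mem_map.1 hw
      have e := eH_conj_xg hK p (show r < chevF4.nroots from (hl r hr).1) (t r)
      rw [(hl r hr).2, one_mul, mul_inv_eq_iff_eq_mul] at e
      exact e.symm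
    have hcy : ∀ g ∈ yEl hK i, g ∈ Subgroup.centralizer ({z} : Set ↥(grp K m)) := by
      rintro g ⟨x', hx', rfl⟩
      refine cP ((orb i).map (wperm tblF4 (wrd i))) ?_ fun r hr =>
        ⟨(lw_chi hK i r (List.mem_append_right _ hr)).1, hp1 r (List.mem_append_right _ hr)⟩
      exact (mono_conj_pset certF4C (wrd_word i) (n := wnu certF4C K (wrd i)) (by rw [inv_mul_cancel]; exact one_mem _)
        (fun r hr => ((list_facts i).1 r (List.mem_append_left _ hr)).2)).1 ((mem_x hK).1 hx')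
    have hcx : ∀ g ∈ xEl hK i, g ∈ Subgroup.centralizer ({z} : Set ↥(grp K m)) := fun g hg =>
      cP (orb i) ((mem_x hK).1 hg) fun r hr =>
        ⟨((list_facts i).1 r (List.mem_append_left _ hr)).2, hp1 r (List.mem_append_left _ hr)⟩
    have hcn : n ∈ Subgroup.centralizer ({z} : Set ↥(grp K m)) :=
      (Subgroup.closure_le _).2 (Set.union_subset hcx hcy) (n_mem hK i)
    have hcH : D' ∈ Subgroup.centralizer ({z} : Set ↥(grp K m)) :=
      Subgroup.mem_centralizer_singleton_iff.2 (Subtype.ext (diag_comm certF4C hdd hz))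
    have hvc : v ∈ Subgroup.centralizer ({z} : Set ↥(grp K m)) := by
      rw [show v = y * (x₁ * D' * n * c)⁻¹ by rw [key]; group]
      exact mul_mem (hcy y ⟨x, hx, hxy⟩) (inv_mem (mul_mem (mul_mem (mul_mem (hcx _ hx₁) hcH) hcn) (hcx _ hc)))
    rw [mul_inv_eq_iff_eq_mul]
    exact (Subgroup.mem_centralizer_singleton_iff.1 hvc).symm
  exact ⟨x₁, hx₁, D', hdd, Or.inr ⟨c, hc, by rw [key, hv1, one_mul]⟩⟩

/-- The shape of the elements of a rank one subgroup. -/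
theorem L_form (hm : 1 ≤ m) (i : Fin 2) {g : ↥(grp K m)}
    (hg : g ∈ Subgroup.closure ((xEl hK i : Set ↥(grp K m)) ∪ yEl hK i)) :
    ∃ x ∈ xEl hK i, ∃ h ∈ hEl K m, g = x * h ∨ ∃ x' ∈ xEl hK i, g = x * h * nEl hK i * x' := by
  set n := nEl hK i
  let F : ↥(grp K m) → Prop := fun g =>
    ∃ x ∈ xEl hK i, ∃ h ∈ hEl K m, g = x * h ∨ ∃ x' ∈ xEl hK i, g = x * h * n * x'
  have hX : ∀ a ∈ xEl hK i, ∀ g, F g → F (a * g) := by
    rintro a ha g ⟨x, hx, h, hh, rfl | ⟨x', hx', rfl⟩⟩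
    · exact ⟨a * x, mul_mem ha hx, h, hh, Or.inl (by group)⟩
    · exact ⟨a * x, mul_mem ha hx, h, hh, Or.inr ⟨x', hx', by group⟩⟩
  have hH : ∀ a ∈ hEl K m, ∀ g, F g → F (a * g) := by
    rintro a ha g ⟨x, hx, h, hh, rfl | ⟨x', hx', rfl⟩⟩
    · exact ⟨a * x * a⁻¹, conj_x hK i ha hx, a * h, mul_mem ha hh, Or.inl (by group)⟩
    · exact ⟨a * x * a⁻¹, conj_x hK i ha hx, a * h, mul_mem ha hh, Or.inr ⟨x', hx', by group⟩⟩
  have hN : ∀ g, F g → F (n * g) := by
    rintro g ⟨x, hx, h, hh, rfl | ⟨x', hx', rfl⟩⟩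
    · refine ⟨1, one_mem _, n * h * n⁻¹, n_conj_H hK i hh, Or.inr ⟨h⁻¹ * x * h⁻¹⁻¹, conj_x hK i (inv_mem hh) hx, ?_⟩⟩
      group
    · rw [show n * (x * h * n * x') = n * x * n⁻¹ * (n * h * n⁻¹ * (n * n) * x') by group]
      have hk := mul_mem (n_conj_H hK i hh) (n_sq hK i)
      set k := n * h * n⁻¹ * (n * n)
      obtain ⟨x₁, hx₁, h₁, hh₁, e | ⟨x₂, hx₂, e⟩⟩ := dec hK hm i (n_X hK i hx) <;> rw [e]
      · exact ⟨x₁ * (h₁ * k * x' * (h₁ * k)⁻¹), mul_mem hx₁ (conj_x hK i (mul_mem hh₁ hk) hx'), h₁ * k, mul_mem hh₁ hk,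
          Or.inl (by group)⟩
      · refine ⟨x₁, hx₁, h₁ * (n * k * n⁻¹), mul_mem hh₁ (n_conj_H hK i hk),
          Or.inr ⟨k⁻¹ * x₂ * k⁻¹⁻¹ * x', mul_mem (conj_x hK i (inv_mem hk) hx₂) hx', ?_⟩⟩
        simp only [n]
        group
  have hN' : ∀ g, F g → F (n⁻¹ * g) := fun g hF => by
    rw [show n⁻¹ * g = (n * n)⁻¹ * (n * g) by group]
    exact hH _ (inv_mem (n_sq hK i)) _ (hN g hF)
  show F g
  induction hg using Subgroup.closure_induction_left with
  | one => exact ⟨1, one_mem _, 1, one_mem _, Or.inl (one_mul _).symm⟩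
  | mul_left a ha y _ ih =>
    rcases ha with ha | ⟨x, hx, rfl⟩
    · exact hX a ha y ih
    · show F (n * x * n⁻¹ * y)
      rw [show n * x * n⁻¹ * y = n * (x * (n⁻¹ * y)) by group]
      exact hN _ (hX x hx _ (hN' y ih))
  | inv_mul_cancel a ha y _ ih =>
    rcases ha with ha | ⟨x, hx, rfl⟩
    · exact hX _ (inv_mem ha) y ih
    · show F ((n * x * n⁻¹)⁻¹ * y)
      rw [show (n * x * n⁻¹)⁻¹ * y = n * (x⁻¹ * (n⁻¹ * y)) by group]
      exact hN _ (hX _ (inv_mem hx) _ (hN' y ih))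

theorem u_meet_h {g : ↥(grp K m)} (hu : g ∈ uEl K m) (hh : g ∈ hEl K m) : g = 1 := by
  have h : (g : GL chevF4.Idx K) ∈ chevF4.posUnipotent K ⊓ chevF4.diagonalSubgroup K := ⟨hu, hh⟩
  rw [pos_inf_diag certF4C, Subgroup.mem_bot] at h
  exact Subtype.ext h

omit hK in
theorem wrd_ne : ∀ i : Fin 2, ∃ k < 4, wperm tblF4 [] (tblF4.simp' k) ≠ wperm tblF4 (wrd i) (tblF4.simp' k) := by
  decide +kernel

theorem cell_not_diag (i : Fin 2) {x h y : ↥(grp K m)} (hx : x ∈ uEl K m) (hh : h ∈ hEl K m) (hy : y ∈ uEl K m) :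
    x * h * nEl hK i * y ∉ hEl K m := by
  intro hd
  have hwm := wrd_ne i
  have hn : wnu certF4C K (wrd i) ∈ chevF4.borelSubgroup K ⊓ chevF4.monomialSubgroup K := by
    refine Subgroup.mem_inf.2 ⟨?_, wnu_mem certF4C (wrd_word i)⟩
    have e : (nEl hK i : GL chevF4.Idx K) =
        ((x * h : ↥(grp K m)) : GL chevF4.Idx K)⁻¹ * ((x * h * nEl hK i * y : ↥(grp K m)) : GL chevF4.Idx K) *
          (y : GL chevF4.Idx K)⁻¹ := by
      simp only [Subgroup.coe_mul]; group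
    show (nEl hK i : GL chevF4.Idx K) ∈ _
    rw [e]
    refine mul_mem (mul_mem (inv_mem ?_) (Subgroup.mem_sup_right hd)) (inv_mem (Subgroup.mem_sup_left hy))
    exact mul_mem (Subgroup.mem_sup_left hx) (Subgroup.mem_sup_right hh)
  rw [borel_inf_monomial certF4C] at hn
  obtain ⟨k, hk, hne⟩ := hwm
  exact hne (perm_of_same certF4C (v := []) (w := wrd i) (fun x hx => absurd hx List.not_mem_nil) (wrd_word i)
    (by simpa [wnu] using hn) (certF4C.spec.simp_lt k hk))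

theorem phi0_grp (g : SL(2, K)) : phi0 hK g ∈ grp K m := by
  suffices (⊤ : Subgroup SL(2, K)) ≤ (grp K m).comap (phi0 hK) from this (Subgroup.mem_top g)
  rw [← SLTwoRel.closure_eq_top, Subgroup.closure_le]
  rintro _ (⟨b, rfl⟩ | rfl)
  · show phi0 hK _ ∈ grp K m
    rw [phi0_upr hK]; exact f4P_fixed hK chkF4PairPos b
  · show phi0 hK _ ∈ grp K m
    rw [phi0_rot hK]; exact wrd_mem hK 0

/-- The first rank one homomorphism into the group. -/
noncomputable def hom0 : SL(2, K) →* ↥(grp K m) := (phi0 hK).codRestrict (grp K m) (phi0_grp hK)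

theorem hom0_upr (b : K) : hom0 hK (SLTwoRel.upr b) = eP hK b := Subtype.ext (phi0_upr hK b)

theorem hom0_rot : hom0 hK SLTwoRel.rot = nEl hK 0 := Subtype.ext (phi0_rot hK)

theorem hom0_diag {g : SL(2, K)} (h : hom0 hK g ∈ hEl K m) :
    ∃ a : Kˣ, g = SLTwoRel.tri (a : K) 0 a.ne_zero ∧ hom0 hK g = eH hK (a, 1) := by
  have htri : ∀ a : Kˣ, hom0 hK (SLTwoRel.tri (a : K) 0 a.ne_zero) = eH hK (a, 1) := fun a =>
    Subtype.ext (phi0_tri hK a)
  have hPu : ∀ x, eP hK x ∈ uEl K m := fun x => x_le hK 0 ((mem_x0 hK).2 ⟨x, rfl⟩)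
  rcases Tri.sl_form g with ⟨x, a, ha, rfl⟩ | ⟨x, a, y, ha, rfl⟩
  · obtain ⟨a, rfl⟩ : ∃ b : Kˣ, (b : K) = a := ⟨Units.mk0 a ha, rfl⟩
    rw [map_mul, hom0_upr, htri] at h
    have h1 : eP hK x ∈ hEl K m := by
      simpa using mul_mem h (inv_mem (show eH hK (a, 1) ∈ hEl K m from eH_mem hK _))
    have hx : x = 0 := eP_inj hK ((u_meet_h hK (hPu x) h1).trans (eP_zero hK).symm)
    have he : SLTwoRel.upr x * SLTwoRel.tri (a : K) 0 ha = SLTwoRel.tri (a : K) 0 a.ne_zero := by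
      rw [hx]
      refine Subtype.ext ?_
      ext i j
      fin_cases i <;> fin_cases j <;> simp [SLTwoRel.coe_upr, SLTwoRel.coe_tri, Matrix.mul_apply, Fin.sum_univ_two]
    exact ⟨a, he, by rw [he, htri]⟩
  · exfalso
    obtain ⟨a, rfl⟩ : ∃ b : Kˣ, (b : K) = a := ⟨Units.mk0 a ha, rfl⟩
    rw [map_mul, map_mul, map_mul, hom0_upr, hom0_upr, hom0_rot, htri] at h
    exact cell_not_diag hK 0 (hPu x) (eH_mem hK (a, 1)) (hPu y) h

theorem hom0_injective : Function.Injective (hom0 hK) := by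
  refine (injective_iff_map_eq_one _).2 fun g hg => ?_
  obtain ⟨a, rfl, e⟩ := hom0_diag hK (g := g) (hg.symm ▸ one_mem _)
  have ha : a = 1 := congrArg Prod.fst (eH_injective hK ((e.symm.trans hg).trans (eH_one hK).symm))
  subst ha
  refine Subtype.ext ?_
  ext i j
  fin_cases i <;> fin_cases j <;> simp [SLTwoRel.coe_tri]

theorem L_zero : Subgroup.closure ((xEl hK 0 : Set ↥(grp K m)) ∪ yEl hK 0) = (hom0 hK).range := by
  refine le_antisymm ((Subgroup.closure_le _).2 (Set.union_subset ?_ ?_)) ?_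
  · intro g hg
    obtain ⟨t, rfl⟩ := (mem_x0 hK).1 hg
    exact ⟨_, hom0_upr hK t⟩
  · rintro _ ⟨g, hg, rfl⟩
    obtain ⟨t, rfl⟩ := (mem_x0 hK).1 hg
    refine ⟨SLTwoRel.rot * SLTwoRel.upr t * SLTwoRel.rot⁻¹, ?_⟩
    rw [map_mul, map_mul, map_inv, hom0_upr, hom0_rot]
    rfl
  · rw [MonoidHom.range_eq_map, ← SLTwoRel.closure_eq_top, MonoidHom.map_closure, Subgroup.closure_le]
    rintro _ ⟨g, ⟨b, rfl⟩ | rfl, rfl⟩
    · exact Subgroup.subset_closure (Or.inl ((mem_x0 hK).2 ⟨b, hom0_upr hK b⟩))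
    · rw [hom0_rot]; exact n_mem hK 0

omit hK in
/-- The matrices preserving the antidiagonal form. -/
def symp (K : Type*) [Field K] : Subgroup (Matrix.SpecialLinearGroup (Fin 4) K) where
  carrier := {z | z.valᵀ * Cfsg.Lib.Linear.Suz.wM K * z.val = Cfsg.Lib.Linear.Suz.wM K}
  one_mem' := by simp
  mul_mem' := fun {a b} ha hb => by
    show (a.val * b.val)ᵀ * _ * (a.val * b.val) = _
    rw [Matrix.transpose_mul,
      show b.valᵀ * a.valᵀ * Cfsg.Lib.Linear.Suz.wM K * (a.val * b.val) =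
        b.valᵀ * (a.valᵀ * Cfsg.Lib.Linear.Suz.wM K * a.val) * b.val by simp only [mul_assoc], ha, hb]
  inv_mem' := fun {a} ha => by
    show (a⁻¹).valᵀ * Cfsg.Lib.Linear.Suz.wM K * (a⁻¹).val = Cfsg.Lib.Linear.Suz.wM K
    have h1 : a.val * (a⁻¹).val = 1 := by rw [← Matrix.SpecialLinearGroup.coe_mul, mul_inv_cancel]; rfl
    conv_lhs => rw [← ha]
    rw [show (a⁻¹).valᵀ * (a.valᵀ * Cfsg.Lib.Linear.Suz.wM K * a.val) * (a⁻¹).val =
      (a.val * (a⁻¹).val)ᵀ * Cfsg.Lib.Linear.Suz.wM K * (a.val * (a⁻¹).val) by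
        rw [Matrix.transpose_mul]; simp only [mul_assoc], h1]
    simp

/-- The matrix of an element of the second rank one subgroup is a Suzuki matrix. -/
theorem L_one_acts (hm : 1 ≤ m) {g : ↥(grp K m)}
    (hg : g ∈ Subgroup.closure ((xEl hK 1 : Set ↥(grp K m)) ∪ yEl hK 1)) :
    ∃ z : Matrix.SpecialLinearGroup (Fin 4) K,
      z ∈ Cfsg.Sz K m ⊓ symp K ∧ Acts (g : GL chevF4.Idx K) z.val := by
  have hP : Cfsg.Lib.Linear.Suz.Params K m := ⟨hm, hK⟩
  let S4 : Subgroup (GL (Fin 4) K) := (Cfsg.Sz K m ⊓ symp K).map Matrix.SpecialLinearGroup.toGL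
  let T1 : Subgroup ↥(grp K m) := ((S4.comap rho).map (keep K).subtype).subgroupOf (grp K m)
  have inT : ∀ (g : ↥(grp K m)) (z : Matrix.SpecialLinearGroup (Fin 4) K), z ∈ Cfsg.Sz K m ⊓ symp K →
      Acts (g : GL chevF4.Idx K) z.val → g ∈ T1 := by
    rintro g z hz ⟨h, e⟩
    exact ⟨⟨_, h⟩, ⟨z, hz, Units.ext e.symm⟩, rfl⟩
  have h2 : (2 : K) = 0 := f4_two_eq_zero
  have hu : ∀ a b : K, Cfsg.Lib.Linear.Suz.uSL m a b ∈ Cfsg.Sz K m ⊓ symp K := fun a b => by
    refine ⟨Cfsg.Lib.Linear.Suz.uSL_mem hP a b, ?_⟩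
    show (Cfsg.Lib.Linear.Suz.uM m a b)ᵀ * Cfsg.Lib.Linear.Suz.wM K * Cfsg.Lib.Linear.Suz.uM m a b = _
    ext i j
    fin_cases i <;> fin_cases j <;>
      simp [Cfsg.Lib.Linear.Suz.uM, Cfsg.Lib.Linear.Suz.wM, Matrix.mul_apply, Fin.sum_univ_four] <;> grind
  have hw : Cfsg.Lib.Linear.Suz.wSL K ∈ Cfsg.Sz K m ⊓ symp K := by
    refine ⟨Cfsg.Lib.Linear.Suz.wSL_mem hP, ?_⟩
    show (Cfsg.Lib.Linear.Suz.wM K)ᵀ * Cfsg.Lib.Linear.Suz.wM K * Cfsg.Lib.Linear.Suz.wM K = _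
    ext i j
    fin_cases i <;> fin_cases j <;> simp [Cfsg.Lib.Linear.Suz.wM, Matrix.mul_apply, Fin.sum_univ_four]
  have hx : ∀ x ∈ xEl hK 1, x ∈ T1 := fun x hx => by
    obtain ⟨t, u, rfl⟩ := (mem_x1 hK).1 hx
    exact inT _ _ (hu _ _) (acts_Q hK t u)
  have hn : nEl hK 1 ∈ T1 := inT _ _ hw acts_n
  have hle : Subgroup.closure ((xEl hK 1 : Set ↥(grp K m)) ∪ yEl hK 1) ≤ T1 := by
    refine (Subgroup.closure_le _).2 (Set.union_subset hx ?_)
    rintro _ ⟨x, hxx, rfl⟩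
    exact mul_mem (mul_mem hn (hx x hxx)) (inv_mem hn)
  obtain ⟨k, ⟨z, hz, e⟩, ek⟩ := hle hg
  have hk : (g : GL chevF4.Idx K) ∈ keep K := by
    have h := k.2
    rwa [show (k : GL chevF4.Idx K) = g from ek] at h
  refine ⟨z, hz, hk, ?_⟩
  have : (⟨(g : GL chevF4.Idx K), hk⟩ : ↥(keep K)) = k := Subtype.ext ek.symm
  rw [this, ← e]
  rfl

theorem L_one_kernel (hm : 1 ≤ m) {g : ↥(grp K m)}
    (hg : g ∈ Subgroup.closure ((xEl hK 1 : Set ↥(grp K m)) ∪ yEl hK 1))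
    (h1 : Acts (g : GL chevF4.Idx K) 1) : g = 1 := by
  obtain ⟨x, hx, h, hh, hg'⟩ := L_form hK hm 1 hg
  obtain ⟨t, u, rfl⟩ := (mem_x1 hK).1 hx
  obtain ⟨p, rfl⟩ := exists_eH hK hh
  rcases hg' with rfl | ⟨x', hx', rfl⟩
  · have e := ((acts_Q hK t u).mul (acts_H hK p)).unique h1
    have ent := fun i j => congrFun (congrFun e i) j
    have d0 := ent 0 0
    have d1 := ent 1 1
    have d2 := ent 2 2
    have d3 := ent 3 3
    have a01 := ent 0 1
    have a13 := ent 1 3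
    simp [Cfsg.Lib.Linear.Suz.uM, E4, Matrix.mul_apply, Fin.sum_univ_four, χ_ne hK p] at d0 d1 d2 d3 a01 a13
    obtain ⟨c37, c35, c34, c33⟩ := chi_four hK p
    rw [d0, eq_comm, Units.val_eq_one, inv_mul_eq_one] at c37
    rw [d2, eq_comm, Units.val_eq_one, mul_inv_eq_one] at c34
    rw [d3, eq_comm, Units.val_eq_one, mul_inv_eq_one, ← c37] at c33
    have hv : p.1 = 1 := unit_trivial hK c33.symm
    rw [← c37, hv, one_pow, one_mul] at c34
    obtain rfl : p = 1 := Prod.ext hv c34.symm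
    rw [eH_one hK, mul_one]
    have ht : t = 0 := a01
    subst ht
    rw [zero_pow (Nat.succ_ne_zero (2 ^ m)), zero_add] at a13
    subst a13
    exact eQ_zero hK
  · exfalso
    obtain ⟨t', u', rfl⟩ := (mem_x1 hK).1 hx'
    have e := ((((acts_Q hK t u).mul (acts_H hK p)).mul acts_n).mul (acts_Q hK t' u')).unique h1
    have d := congrFun (congrFun e 3) 0
    simp [Cfsg.Lib.Linear.Suz.uM, Cfsg.Lib.Linear.Suz.wM, E4, Matrix.mul_apply, Fin.sum_univ_four, χ_ne hK p, Matrix.vecMul, dotProduct, Matrix.diagonal_mul] at d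

theorem H_meet (hm : 1 ≤ m) {h : ↥(grp K m)} (hh : h ∈ hEl K m)
    (h0 : h ∈ Subgroup.closure ((xEl hK 0 : Set ↥(grp K m)) ∪ yEl hK 0))
    (h1 : h ∈ Subgroup.closure ((xEl hK 1 : Set ↥(grp K m)) ∪ yEl hK 1)) : h = 1 := by
  rw [L_zero] at h0
  obtain ⟨g, rfl⟩ := h0
  obtain ⟨a, -, e⟩ := hom0_diag hK hh
  rw [e] at h1 ⊢
  obtain ⟨z, hz, hact⟩ := L_one_acts hK hm h1
  have hz' := hz.2
  change z.valᵀ * _ * z.val = _ at hz'
  rw [hact.unique (acts_H hK (a, 1))] at hz'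
  have d := congrFun (congrFun hz' 0) 3
  obtain ⟨c37, -, -, c33⟩ := chi_four hK (a, (1 : Kˣ))
  simp [Cfsg.Lib.Linear.Suz.wM, E4, Matrix.mul_apply, Fin.sum_univ_four, c37, c33] at d
  have ha : a = 1 := unit_trivial hK (by
    refine Units.ext ?_
    rw [Units.val_pow_eq_pow_val, Units.val_pow_eq_pow_val]
    exact ((inv_mul_eq_one₀ a.ne_zero).1 d))
  rw [ha]
  exact eH_one hK

omit hK in
theorem htab : ∀ e < 16, ∀ i : Fin 2, ∃ e' < 16, ∀ k < 4,
    wperm tblF4 (twF4.eword e') (tblF4.simp' k) = wperm tblF4 (wrd i ++ twF4.eword e) (tblF4.simp' k) := by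
  decide +kernel

omit hK in
theorem sign_tab : ∀ e < 16, ∀ i : Fin 2, (∀ r ∈ orb i, 24 ≤ wperm tblF4 (twF4.eword e) r) ∨
    (∀ r ∈ (orb i).map (wperm tblF4 (wrd i)), 24 ≤ wperm tblF4 (twF4.eword e) r) := by decide +kernel

omit hK in
theorem elts_len : twF4.elts.length = 16 ∧ twF4.eword 0 = [] := by decide +kernel

/-- A monomial element with its word. -/
theorem monomial_form {g : ↥(grp K m)}
    (hg : g ∈ Subgroup.closure (Set.range (nEl hK) ∪ (hEl K m : Set ↥(grp K m)))) :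
    ∃ e < 16, (wnu certF4C K (twF4.eword e))⁻¹ * (g : GL chevF4.Idx K) ∈ chevF4.diagonalSubgroup K := by
  have hw : ∀ e < 16, IsWord chevF4 (twF4.eword e) := fun e he =>
    twCombF4.eword_word certF4C (elts_len.1.symm ▸ he)
  let Q : ↥(grp K m) → Prop := fun g =>
    ∃ e < 16, (wnu certF4C K (twF4.eword e))⁻¹ * (g : GL chevF4.Idx K) ∈ chevF4.diagonalSubgroup K
  have hmul : ∀ (i : Fin 2) (g : ↥(grp K m)), Q g → Q (nEl hK i * g) := by
    rintro i g ⟨e, he, hd⟩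
    obtain ⟨e', he', hp⟩ := htab e he i
    refine ⟨e', he', ?_⟩
    have h1 := same_of_perm certF4C fullCertF4 (F := K) (hw e' he') ((wrd_word i).append (hw e he)) hp
    have := mul_mem h1 hd
    rw [wnu_append] at this
    rw [Subgroup.coe_mul]
    simpa [nEl, mul_assoc] using this
  have hH : ∀ h g : ↥(grp K m), h ∈ hEl K m → Q g → Q (h * g) := by
    rintro h g hh ⟨e, he, hd⟩
    refine ⟨e, he, ?_⟩
    have := mul_mem (conj_mem_diag certF4C (wnu_mem certF4C (hw e he)) (Subgroup.mem_subgroupOf.1 hh)).2 hd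
    rw [Subgroup.coe_mul]
    simpa [mul_assoc] using this
  show Q g
  induction hg using Subgroup.closure_induction_left with
  | one =>
    refine ⟨0, by norm_num, ?_⟩
    rw [elts_len.2, OneMemClass.coe_one]
    simpa [wnu] using one_mem _
  | mul_left x hx y _ ih =>
    rcases hx with ⟨i, rfl⟩ | hx
    · exact hmul i y ih
    · exact hH x y hx ih
  | inv_mul_cancel x hx y _ ih =>
    rcases hx with ⟨i, rfl⟩ | hx
    · rw [show (nEl hK i)⁻¹ * y = (nEl hK i * nEl hK i)⁻¹ * (nEl hK i * y) by group]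
      exact hH _ _ (inv_mem (n_sq hK i)) (hmul i y ih)
    · exact hH _ y (inv_mem hx) ih

theorem pow_word (k : ℕ) : ((nEl hK 0 * nEl hK 1) ^ k : ↥(grp K m)).1 =
    wnu certF4C K (List.replicate k (wrd 0 ++ wrd 1)).flatten := by
  induction k with
  | zero => simp [wnu]
  | succ k ih =>
    rw [pow_succ', Subgroup.coe_mul, ih, Subgroup.coe_mul, List.replicate_succ, List.flatten_cons, wnu_append,
      wnu_append]
    rfl

omit hK in
theorem rep_word (k : ℕ) : IsWord chevF4 (List.replicate k (wrd 0 ++ wrd 1)).flatten := fun x hx => by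
  obtain ⟨l, hl, hxl⟩ := List.mem_flatten.1 hx
  exact ((wrd_word 0).append (wrd_word 1)) x (List.eq_of_mem_replicate hl ▸ hxl)

omit hK in
theorem wperm_mod : ∀ k, ∀ r < 48, wperm tblF4 (List.replicate k (wrd 0 ++ wrd 1)).flatten r =
    wperm tblF4 (List.replicate (k % 8) (wrd 0 ++ wrd 1)).flatten r := by
  have h8 : ∀ r < 48, wperm tblF4 (List.replicate 8 (wrd 0 ++ wrd 1)).flatten r = r := by decide +kernel
  intro k r hr
  induction k using Nat.strong_induction_on with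
  | _ k ih =>
    rcases lt_or_ge k 8 with h | h
    · rw [Nat.mod_eq_of_lt h]
    · obtain ⟨j, rfl⟩ : ∃ j, k = 8 + j := ⟨k - 8, by omega⟩
      rw [List.replicate_add, List.flatten_append, wperm_append, h8 _ (wperm_lt certF4C (rep_word j) hr),
        ih j (by omega), Nat.add_mod_left]

theorem pow_facts (k : ℕ) :
    ((nEl hK 0 * nEl hK 1) ^ k ∈ hEl K m → 8 ∣ k) ∧ (nEl hK 0 * nEl hK 1) ^ k * nEl hK 0 ∉ hEl K m := by
  have htab' : ∀ r < 8, (r = 0 ∨ ∃ j < 4, wperm tblF4 [] (tblF4.simp' j) ≠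
      wperm tblF4 (List.replicate r (wrd 0 ++ wrd 1)).flatten (tblF4.simp' j)) ∧
      ∃ j < 4, wperm tblF4 [] (tblF4.simp' j) ≠
        wperm tblF4 (List.replicate r (wrd 0 ++ wrd 1)).flatten (wperm tblF4 (wrd 0) (tblF4.simp' j)) := by decide +kernel
  obtain ⟨h1, h2⟩ := htab' (k % 8) (Nat.mod_lt _ (by norm_num))
  refine ⟨fun h => ?_, fun h => ?_⟩
  · rcases h1 with h1 | ⟨j, hj, hne⟩
    · exact Nat.dvd_of_mod_eq_zero h1
    · rw [hEl, Subgroup.mem_subgroupOf, pow_word] at h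
      exfalso
      apply hne
      rw [← wperm_mod k _ (certF4C.spec.simp_lt j hj)]
      exact perm_of_same certF4C (v := []) (fun x hx => absurd hx List.not_mem_nil) (rep_word k)
        (by simpa [wnu] using h) (certF4C.spec.simp_lt j hj)
  · obtain ⟨j, hj, hne⟩ := h2
    rw [hEl, Subgroup.mem_subgroupOf, Subgroup.coe_mul, pow_word, show (nEl hK 0 : GL chevF4.Idx K) =
      wnu certF4C K (wrd 0) from rfl, ← wnu_append] at h
    apply hne
    have e := perm_of_same certF4C (v := []) (fun x hx => absurd hx List.not_mem_nil)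
      ((rep_word k).append (wrd_word 0)) (by simpa [wnu] using h) (certF4C.spec.simp_lt j hj)
    rw [wperm_append, wperm_mod k _ (wperm_lt certF4C (wrd_word 0) (certF4C.spec.simp_lt j hj))] at e
    exact e

omit hK in
/-- The braid word. -/
def gW : List ℕ := (List.replicate 3 (wrd 0 ++ wrd 1)).flatten ++ wrd 0

theorem gB_val : (((nEl hK 0 * nEl hK 1) ^ 3 * nEl hK 0 : ↥(grp K m)) : GL chevF4.Idx K) = wnu certF4C K gW := by
  rw [Subgroup.coe_mul, pow_word, gW, wnu_append]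
  rfl

omit hK in
theorem gW_word : IsWord chevF4 gW := (rep_word 3).append (wrd_word 0)

theorem gB_braid : (nEl hK 0 * nEl hK 1) ^ 3 * nEl hK 0 * nEl hK 1 * ((nEl hK 0 * nEl hK 1) ^ 3 * nEl hK 0)⁻¹ *
    (nEl hK 1)⁻¹ ∈ hEl K m := by
  have hd := same_of_perm certF4C fullCertF4 (F := K) ((wrd_word 1).append gW_word) (gW_word.append (wrd_word 1))
    (by decide +kernel)
  have hm' : wnu certF4C K (wrd 1 ++ gW) ∈ chevF4.monomialSubgroup K := wnu_mem certF4C ((wrd_word 1).append gW_word)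
  have h2 := (conj_mem_diag certF4C hm' hd).1
  rw [hEl, Subgroup.mem_subgroupOf]
  simp only [Subgroup.coe_mul, InvMemClass.coe_inv]
  rw [show ((((nEl hK 0 * nEl hK 1) ^ 3 : ↥(grp K m)) : GL chevF4.Idx K) * (nEl hK 0 : GL chevF4.Idx K)) =
    wnu certF4C K gW from gB_val hK]
  rw [wnu_append, wnu_append] at h2
  simpa [nEl, mul_assoc, _root_.mul_inv_rev] using h2

theorem gB_x {x : ↥(grp K m)} (hx : x ∈ xEl hK 1) :
    (nEl hK 0 * nEl hK 1) ^ 3 * nEl hK 0 * x * ((nEl hK 0 * nEl hK 1) ^ 3 * nEl hK 0)⁻¹ ∈ xEl hK 1 := by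
  rw [mem_x, Subgroup.coe_mul, Subgroup.coe_mul, InvMemClass.coe_inv, gB_val hK]
  have h := (mono_conj_pset certF4C (F := K) gW_word (n := wnu certF4C K gW) (by rw [inv_mul_cancel]; exact one_mem _)
    (l := orb 1) (fun r hr => ((list_facts 1).1 r (List.mem_append_left _ hr)).2)).1 ((mem_x hK).1 hx)
  rwa [show (orb 1).map (wperm tblF4 gW) = orb 1 by decide +kernel] at h

theorem gen_top : Subgroup.closure ((uEl K m : Set ↥(grp K m)) ∪ Set.range (nEl hK)) = ⊤ := by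
  set C := Subgroup.closure ((uEl K m : Set ↥(grp K m)) ∪ Set.range (nEl hK))
  have hn : ∀ i, nEl hK i ∈ C := fun i => Subgroup.subset_closure (Or.inr ⟨i, rfl⟩)
  have hx : ∀ i, ∀ x ∈ xEl hK i, x ∈ C := fun i x hx => Subgroup.subset_closure (Or.inl (x_le hK i hx))
  have hy : ∀ i, ∀ y ∈ yEl hK i, y ∈ C := by
    rintro i _ ⟨x, hxx, rfl⟩
    exact mul_mem (mul_mem (hn i) (hx i x hxx)) (inv_mem (hn i))
  have hle : grp K m ≤ C.map (grp K m).subtype := by
    refine f4_fixed_le hK (fun t => ⟨eP hK t, hx 0 _ ((mem_x0 hK).2 ⟨t, rfl⟩), rfl⟩)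
      (fun t => ⟨⟨f4P m 14 23 t, f4P_fixed hK chkF4PairNeg t⟩, hy 0 _ (mem_y hK ?_), rfl⟩)
      (fun t u => ⟨eQ hK t u, hx 1 _ ((mem_x1 hK).2 ⟨t, u, rfl⟩), rfl⟩)
      (fun t u => ⟨⟨f4Q m 20 22 19 17 t u, f4Q_fixed hK chkF4QuadNeg t u⟩, hy 1 _ (mem_y hK ?_), rfl⟩)
    · rw [show (orb 0).map (wperm tblF4 (wrd 0)) = [14, 23] by decide +kernel]
      exact ⟨fun r => if r = 14 then t ^ 2 ^ m else t, by simp [f4P, f4Pair, lprod]⟩
    · rw [show (orb 1).map (wperm tblF4 (wrd 1)) = [20, 22, 19, 17] by decide +kernel]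
      exact ⟨fun r => if r = 20 then t ^ 2 ^ m else if r = 22 then t else if r = 19 then t ^ (2 ^ m + 1) + u
        else u ^ (2 * 2 ^ m), by simp [f4Q, f4Quad, lprod, mul_assoc]⟩
  rw [eq_top_iff]
  intro g _
  obtain ⟨g', hg', e⟩ := hle g.2
  rwa [show g = g' from Subtype.ext e.symm]

theorem u_pgroup : IsPGroup 2 ↥(uEl K m) := by
  have e : uEl K m = spanBelow (X hK) 12 := by
    ext g
    rw [span_upper hK le_rfl, uEl, Subgroup.mem_subgroupOf, posUnipotent_eq certF4C]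
    rfl
  exact IsPGroup.of_card (n := (2 * m + 1) * 12) (by rw [e, card_span hK, ← pow_mul])

/-- The rank two structure. -/
noncomputable def rankTwo (hm : 1 ≤ m) : RankTwo 2 ↥(grp K m) where
  U := uEl K m
  H := hEl K m
  X := xEl hK
  Y := yEl hK
  V := vEl K m
  n := nEl hK
  half := 3
  pgroup := u_pgroup hK
  conj_U := fun h hh u hu => ((fX hK).conj_pos_iff (x := (u : GL chevF4.Idx K))
    (Subgroup.mem_sup_right (Subgroup.mem_subgroupOf.1 hh))).2 hu
  conj_X := fun i h hh x hx => conj_x hK i hh hx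
  conj_Y := fun i h hh y hy => conj_y hK i hh hy
  X_le := x_le hK
  V_le := v_le
  n_X := fun i x hx => n_X hK i hx
  n_Y := fun i y hy => by
    obtain ⟨x, hx, rfl⟩ := hy
    show nEl hK i * (nEl hK i * x * (nEl hK i)⁻¹) * (nEl hK i)⁻¹ ∈ xEl hK i
    rw [show nEl hK i * (nEl hK i * x * (nEl hK i)⁻¹) * (nEl hK i)⁻¹ =
      (nEl hK i * nEl hK i) * x * (nEl hK i * nEl hK i)⁻¹ by group]
    exact conj_x hK i (n_sq hK i) hx
  n_V := fun i v hv => mono_closure (wrd_word i) (n := wnu certF4C K (wrd i)) (by rw [inv_mul_cancel]; exact one_mem _)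
    (fun r hr => ((list_facts i).1 r (List.mem_append_right _ hr)).2) (list_facts i).2.2.1 hv
  n_H := fun i h hh => n_conj_H hK i hh
  n_sq := n_sq hK
  n_mem := n_mem hK
  split_U := fun i u hu => split_u hK i hu
  dec := fun i y hy => dec hK hm i hy
  dich := fun g hg i => by
    obtain ⟨e, he, hd⟩ := monomial_form hK (inv_mem hg)
    have hw : IsWord chevF4 (twF4.eword e) := twCombF4.eword_word certF4C (elts_len.1.symm ▸ he)
    have hl : ∀ r ∈ orb i, r < chevF4.nroots := fun r hr => ((list_facts i).1 r (List.mem_append_left _ hr)).2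
    rcases sign_tab e he i with h | h
    · refine Or.inl fun x hx => ?_
      have h1 := pset_sub_pos (fun r hr => by obtain ⟨s, hs, rfl⟩ := List.mem_map.1 hr; exact h s hs)
        ((mono_conj_pset certF4C hw hd hl).1 ((mem_x hK).1 hx))
      show ((g⁻¹ * x * g : ↥(grp K m)) : GL chevF4.Idx K) ∈ chevF4.posUnipotent K
      simpa using h1
    · refine Or.inr fun y hy => ?_
      obtain ⟨x, hx, rfl⟩ := hy
      have hy' := (mono_conj_pset certF4C (wrd_word i) (n := wnu certF4C K (wrd i))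
        (by rw [inv_mul_cancel]; exact one_mem _) hl).1 ((mem_x hK).1 hx)
      have hl' : ∀ r ∈ (orb i).map (wperm tblF4 (wrd i)), r < chevF4.nroots := fun r hr => by
        obtain ⟨s, hs, rfl⟩ := List.mem_map.1 hr
        exact wperm_lt certF4C (wrd_word i) (hl s hs)
      have h1 := pset_sub_pos (fun r hr => by obtain ⟨s, hs, rfl⟩ := List.mem_map.1 hr; exact h s hs)
        ((mono_conj_pset certF4C hw hd hl').1 hy')
      show ((g⁻¹ * (nEl hK i * x * (nEl hK i)⁻¹) * g : ↥(grp K m)) : GL chevF4.Idx K) ∈ chevF4.posUnipotent K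
      simpa [nEl, mul_assoc] using h1
  H_meet := fun h hh h0 h1 => H_meet hK hm hh h0 h1
  H_comm := fun a ha b hb => Subtype.ext (diag_comm certF4C ha hb)
  N_meet := fun g hg hU => by
    obtain ⟨e, he, hd⟩ := monomial_form hK hg
    have hw : IsWord chevF4 (twF4.eword e) := twCombF4.eword_word certF4C (elts_len.1.symm ▸ he)
    have hmono : (g : GL chevF4.Idx K) ∈ chevF4.monomialSubgroup K := by
      have := mul_mem (wnu_mem certF4C (F := K) hw) (diag_le_monomial certF4C hd)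
      rwa [mul_inv_cancel_left] at this
    refine u_meet_h hK hU (Subgroup.mem_subgroupOf.2 ?_)
    rw [← borel_inf_monomial certF4C]
    exact ⟨Subgroup.mem_sup_left hU, hmono⟩
  word := fun k h => (pow_facts hK k).1 h
  word_odd := fun k => (pow_facts hK k).2
  braid_X := fun x hx => gB_x hK hx
  braid_Y := fun y hy => by
    obtain ⟨x, hx, rfl⟩ := hy
    have h1 := n_X hK 1 (gB_x hK hx)
    have := conj_y hK 1 (gB_braid hK) h1
    convert this using 1
    show _ * (nEl hK 1 * x * (nEl hK 1)⁻¹) * _ = _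
    group
  braid := gB_braid hK
  gen := gen_top hK

/-- No stem extension with kernel of odd prime order. -/
theorem cross_part (hm : 1 ≤ m) {r : ℕ} (hr : r.Prime) (hr2 : r ≠ 2) {Γ : Type u} [Group Γ] [Finite Γ]
    (σ : Γ →* ↥(grp K m)) (hs : Function.Surjective σ) (hc : σ.ker ≤ Subgroup.center Γ)
    (hcard : Nat.card σ.ker = r) : ¬ σ.ker ≤ commutator Γ := by
  haveI : Fact (Nat.Prime 2) := ⟨Nat.prime_two⟩
  haveI := Fact.mk hr
  refine (rankTwo hK hm).not_le hs hc hr hr2 hcard fun i => ?_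
  fin_cases i
  · exact (rankTwo hK hm).liftL_meet hs hc hr hr2 hcard (i := 0)
      ((MulEquiv.subgroupCongr (L_zero hK)).trans (MonoidHom.ofInjective (hom0_injective hK)).symm)
      (noStem_sl_two (p := 2) hr hr2)
  · refine (rankTwo hK hm).liftL_meet hs hc hr hr2 hcard (i := 1) (MulEquiv.refl _) ?_
    set L1 := (rankTwo hK hm).L 1
    have hP : Cfsg.Lib.Linear.Suz.Params K m := ⟨hm, hK⟩
    choose z hz hact using fun g : ↥L1 => L_one_acts hK hm g.2
    let f : ↥L1 →* ↥(Cfsg.Sz K m) := MonoidHom.mk' (fun g => ⟨z g, (hz g).1⟩) fun a b => by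
      refine Subtype.ext (Subtype.ext ?_)
      show (z (a * b)).val = (z a).val * (z b).val
      exact (hact (a * b)).unique ((hact a).mul (hact b))
    have hf : Function.Injective f := by
      refine (injective_iff_map_eq_one _).2 fun g hg => Subtype.ext (L_one_kernel hK hm g.2 ?_)
      have : z g = 1 := congrArg Subtype.val hg
      have h := hact g
      rwa [this] at h
    let P : Sylow r ↥L1 := default
    obtain ⟨Q, hQ⟩ := (P.isPGroup'.map f).exists_le_sylow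
    haveI := Cfsg.Lib.Linear.Suz.sylow_odd_cyclic hP hr2 Q
    haveI : IsCyclic ↥((P : Subgroup ↥L1).map f) :=
      isCyclic_of_injective (Subgroup.inclusion hQ) (Subgroup.inclusion_injective hQ)
    haveI : IsCyclic ↥(P : Subgroup ↥L1) :=
      isCyclic_of_injective ((P : Subgroup ↥L1).equivMapOfInjective f hf).toMonoidHom
        ((P : Subgroup ↥L1).equivMapOfInjective f hf).injective
    exact noStem_of_sylow P Cfsg.Agent.S3979.result

end Cfsg.Lib.Chev.TwMult.Ree
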