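import Cfsg.Agent.Lib.Chev.TwMult.Ree.Weights
import Cfsg.Agent.Lib.Chev.MultNorm

/-!
The Schur multiplier of ²F₄(q) has trivial two-part: the layers split, the four exceptional pairs at `q = 8` commuting
in every central extension because the centre of one class consists of commutators from outside that class.
-/

set_option autoImplicit false
set_option linter.unusedSectionVars false
set_option maxRecDepth 100000

namespace Cfsg.Lib.Chev.TwMult.Ree

open Cfsg.Lie Cfsg.Lib.Chev Cfsg.Lib.Chev.TwMult Cfsg.Lib.Chev.MultW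
open scoped commutatorElement

universe u

section Field

variable {K : Type*} [Field K] [CharP K esymF4.p]

local instance charTwoTwoPart1 : CharP K 2 := inferInstanceAs (CharP K esymF4.p)

/-- A positive class of type B₂. -/
structure Cls where
  a : ℕ
  b : ℕ
  c : ℕ
  d : ℕ
  M₁ : ℤ
  M₂ : ℤ
  chk : chkF4Quad a b c d M₁ M₂ = true
  pos : ∀ r ∈ [a, b, c, d], 24 ≤ r ∧ r < 48
  nodup : [a, b, c, d].Nodup

/-- The four classes. -/
def clsB : Cls := ⟨27, 25, 28, 30, -1, -1, chkF4QuadPos, by decide, by decide⟩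
/-- The second class. -/
def clsC : Cls := ⟨34, 26, 36, 42, -1, 1, chkF4Classes.2.2.2.1, by decide, by decide⟩
/-- The third class. -/
def clsE : Cls := ⟨35, 31, 40, 46, 1, 1, chkF4Classes.2.2.2.2.1, by decide, by decide⟩
/-- The fourth class. -/
def clsG : Cls := ⟨29, 41, 44, 47, 1, 1, chkF4Classes.2.2.2.2.2, by decide, by decide⟩

/-- The fixed element of a class. -/
noncomputable def clsEl (l : Cls) (m : ℕ) (t u : K) : GL chevF4.Idx K := f4Q m l.a l.b l.c l.d t u

theorem cls_lprod (l : Cls) (A B C' D' : K) : f4Quad l.a l.b l.c l.d A B C' D' = lprod certF4C [l.a, l.b, l.c, l.d]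
    (fun r => if r = l.a then A else if r = l.b then B else if r = l.c then C' else D') := by
  obtain ⟨a, b, c, d, -, -, -, -, hnd⟩ := l
  simp only [List.nodup_cons, List.mem_cons, List.not_mem_nil, or_false, not_or] at hnd
  obtain ⟨⟨h1, h2, h3⟩, ⟨h4, h5⟩, h6, -⟩ := hnd
  simp [f4Quad, lprod, mul_assoc, Ne.symm h1, Ne.symm h2, Ne.symm h3, Ne.symm h4, Ne.symm h5, Ne.symm h6]

theorem cls_inj (l : Cls) {A B C' D' A₂ B₂ C₂ D₂ : K}
    (e : f4Quad l.a l.b l.c l.d A B C' D' = f4Quad l.a l.b l.c l.d A₂ B₂ C₂ D₂) :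
    A = A₂ ∧ B = B₂ ∧ C' = C₂ ∧ D' = D₂ := by
  rw [cls_lprod, cls_lprod] at e
  have h := lprod_inj certF4C fullCertF4.comm l.nodup (fun r hr => by
    have := l.pos r hr
    show 48 / 2 ≤ r ∧ r < 48
    omega) e
  have hnd := l.nodup
  simp only [List.nodup_cons, List.mem_cons, List.not_mem_nil, or_false, not_or] at hnd
  obtain ⟨⟨h1, h2, h3⟩, ⟨h4, h5⟩, h6, -⟩ := hnd
  refine ⟨?_, ?_, ?_, ?_⟩
  · simpa using h l.a (by simp)
  · simpa [Ne.symm h1] using h l.b (by simp)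
  · simpa [Ne.symm h2, Ne.symm h4] using h l.c (by simp)
  · simpa [Ne.symm h3, Ne.symm h5, Ne.symm h6] using h l.d (by simp)

/-- A root element conjugated by another with one commutator term. -/
theorem swap_one {r s o : ℕ} (hr : r < 48) (hs : s < 48) (h1 : s ≠ r) (h2 : s ≠ tblF4.neg r)
    (h : oddTerms tblF4 r s = [(o, 1, 1)]) (t u : K) :
    xg certF4C r t * xg certF4C s u * (xg certF4C r t)⁻¹ = xg certF4C s u * xg certF4C o (t * u) := by
  have e := xg_swap certF4C fullCertF4 (F := K) (r := r) (s := s) hr hs h1 h2 t u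
  rw [h] at e
  simp only [List.map_cons, List.map_nil, List.prod_cons, List.prod_nil, mul_one, pow_one] at e
  have hi : (xg certF4C r t)⁻¹ = xg certF4C r t := by rw [xg_inv, CharTwo.neg_eq]
  calc xg certF4C r t * xg certF4C s u * (xg certF4C r t)⁻¹
      = (xg certF4C r t)⁻¹ * (xg certF4C s u * xg certF4C r t) := by simp only [hi, mul_assoc]
    _ = _ := by rw [e, mul_assoc, inv_mul_cancel_left]

/-- Root elements without commutator term. -/
theorem swap_none {r s : ℕ} (hr : r < 48) (hs : s < 48) (h1 : s ≠ r) (h2 : s ≠ tblF4.neg r)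
    (h : oddTerms tblF4 r s = []) (t u : K) : Commute (xg certF4C r t) (xg certF4C s u) := by
  have e := xg_swap certF4C fullCertF4 (F := K) (r := r) (s := s) hr hs h1 h2 t u
  rw [h] at e
  simp only [List.map_nil, List.prod_nil, mul_one] at e
  exact e.symm

theorem terms :
    [(32, 36), (37, 42), (37, 47), (44, 42), (29, 32), (29, 46), (41, 37), (44, 37), (44, 32), (40, 32), (44, 29),
      (47, 41), (44, 41), (29, 36), (29, 42), (41, 36), (41, 42), (44, 36), (47, 29), (47, 36), (40, 36), (40, 42),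
      (46, 36), (46, 42)].map
      (fun p : ℕ × ℕ => (oddTerms tblF4 p.1 p.2, tblF4.neg p.1 != p.2)) = List.replicate 24 ([], true) ∧
    [(32, 42), (37, 36), (29, 37), (41, 32)].map (fun p : ℕ × ℕ => (oddTerms tblF4 p.1 p.2, tblF4.neg p.1 != p.2)) =
      [([(47, 1, 1)], true), ([(44, 1, 1)], true), ([(40, 1, 1)], true), ([(46, 1, 1)], true)] := by
  constructor <;> decide +kernel

theorem comm_of {r s : ℕ} (hp : (r, s) ∈ [(32, 36), (37, 42), (37, 47), (44, 42), (29, 32), (29, 46), (41, 37), (44, 37),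
    (44, 32), (40, 32), (44, 29), (47, 41), (44, 41), (29, 36), (29, 42), (41, 36), (41, 42), (44, 36), (47, 29),
    (47, 36), (40, 36), (40, 42), (46, 36), (46, 42)]) (t u : K) :
    Commute (xg certF4C r t) (xg certF4C s u) := by
  have hb : r < 48 ∧ s < 48 ∧ s ≠ r := by
    have : ∀ p ∈ [(32, 36), (37, 42), (37, 47), (44, 42), (29, 32), (29, 46), (41, 37), (44, 37),
        (44, 32), (40, 32), (44, 29), (47, 41), (44, 41), (29, 36), (29, 42), (41, 36), (41, 42), (44, 36), (47, 29),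
        (47, 36), (40, 36), (40, 42), (46, 36), ((46, 42) : ℕ × ℕ)], p.1 < 48 ∧ p.2 < 48 ∧ p.2 ≠ p.1 := by decide
    exact this _ hp
  have hmem : (oddTerms tblF4 r s, tblF4.neg r != s) ∈ List.replicate 24 ([], true) := by
    rw [← terms.1]
    exact List.mem_map.2 ⟨(r, s), hp, rfl⟩
  have h := List.eq_of_mem_replicate hmem
  simp only [Prod.mk.injEq, bne_iff_ne, ne_eq] at h
  exact swap_none hb.1 hb.2.1 hb.2.2 (Ne.symm h.2) h.1 t u

variable [Fintype K] {m : ℕ} (hK : Fintype.card K = 2 ^ (2 * m + 1))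
include hK

theorem cls_fixed_mem (l : Cls) (t u : K) : clsEl l m t u ∈ grp K m := f4Q_fixed hK l.chk t u

/-- A class element in the group. -/
noncomputable def Q (l : Cls) (t u : K) : ↥(grp K m) := ⟨clsEl l m t u, cls_fixed_mem hK l t u⟩

/-- The fixed elements in the roots of a class. -/
theorem pset_cls (l : Cls) {g : GL chevF4.Idx K} (hg : g ∈ Pset certF4C [l.a, l.b, l.c, l.d])
    (hfix : twF4σ m g = g) : ∃ t u, g = clsEl l m t u := by
  obtain ⟨s, rfl⟩ := hg
  have es : lprod certF4C [l.a, l.b, l.c, l.d] s = f4Quad l.a l.b l.c l.d (s l.a) (s l.b) (s l.c) (s l.d) := by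
    simp [f4Quad, lprod, mul_assoc]
  rw [es, f4Quad_twist l.chk] at hfix
  obtain ⟨h1, h2, h3, -⟩ := cls_inj l hfix
  refine ⟨s l.b, s l.d ^ 2 ^ m, ?_⟩
  rw [es, clsEl, f4Q]
  rw [h2] at h3
  congr 1
  · exact h1.symm
  · rw [← h3, pow_succ]; ring
  · rw [← pow_mul, show 2 ^ m * (2 * 2 ^ m) = 2 ^ m * (2 ^ m * 2) by ring, pow_mul, f4_theta hK]

theorem pset_ctr (l : Cls) {g : GL chevF4.Idx K} (hg : g ∈ Pset certF4C [l.c, l.d]) (hfix : twF4σ m g = g) :
    ∃ u, g = clsEl l m 0 u := by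
  obtain ⟨s, rfl⟩ := hg
  have es : lprod certF4C [l.c, l.d] s = f4Quad l.a l.b l.c l.d 0 0 (s l.c) (s l.d) := by
    simp [f4Quad, lprod, xg_zero]
  have hmem : lprod certF4C [l.c, l.d] s ∈ Pset certF4C [l.a, l.b, l.c, l.d] := by
    rw [es, cls_lprod]; exact ⟨_, rfl⟩
  obtain ⟨t, u, e⟩ := pset_cls hK l hmem hfix
  refine ⟨u, ?_⟩
  have e' := e
  rw [es, clsEl, f4Q] at e'
  obtain ⟨-, ht, -, -⟩ := cls_inj l e'
  rw [e, ← ht]

theorem Q_mul_ctr (l : Cls) (t u v : K) : Q hK l t u * Q hK l 0 v = Q hK l t (u + v) := by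
  refine Subtype.ext ?_
  have h0 := l.chk
  simp only [chkF4Quad, Bool.and_eq_true] at h0
  have hcd : chkCommMod 2 tblF4 l.c l.d = true := by aesop
  have c := xg_commute_mod certF4C fullCertF4.comm (F := K) hcd
  show clsEl l m t u * clsEl l m 0 v = clsEl l m t (u + v)
  simp only [clsEl, f4Q, f4Quad, zero_pow (Nat.two_pow_pos m).ne', zero_pow (Nat.succ_ne_zero (2 ^ m)), xg_zero, one_mul,
    zero_add]
  rw [show (u + v) ^ (2 * 2 ^ m) = u ^ (2 * 2 ^ m) + v ^ (2 * 2 ^ m) by rw [← pow_succ']; exact f4_add_pow _ _ _,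
    ← add_assoc]
  calc _ = xg certF4C l.a (t ^ 2 ^ m) * xg certF4C l.b t * xg certF4C l.c (t ^ (2 ^ m + 1) + u) *
        (xg certF4C l.d (u ^ (2 * 2 ^ m)) * xg certF4C l.c v) * xg certF4C l.d (v ^ (2 * 2 ^ m)) := by
          simp only [mul_assoc]
    _ = xg certF4C l.a (t ^ 2 ^ m) * xg certF4C l.b t * (xg certF4C l.c (t ^ (2 ^ m + 1) + u) * xg certF4C l.c v) *
        (xg certF4C l.d (u ^ (2 * 2 ^ m)) * xg certF4C l.d (v ^ (2 * 2 ^ m))) := by
          rw [(c v _).symm.eq]; simp only [mul_assoc]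
    _ = _ := by rw [xg_add, xg_add]

/-- Conjugation by the torus keeps the class elements. -/
theorem tor_cls (l : Cls) (e : Kˣ × Kˣ) (t u : K) :
    ∃ t' u', tor hK e * Q hK l t u * (tor hK e)⁻¹ = Q hK l t' u' ∧ (t = 0 → t' = 0) ∧ (u = 0 → u' = 0) := by
  set T := torusHom chevF4 tblF4 K (f4Par m e.1 e.2)
  have hlt : ∀ r ∈ [l.a, l.b, l.c, l.d], r < chevF4.nroots := fun r hr => (l.pos r hr).2
  set χ := chr tblF4 chevF4 (extend' (f4Par m e.1 e.2))
  have hval : ((tor hK e * Q hK l t u * (tor hK e)⁻¹ : ↥(grp K m)) : GL chevF4.Idx K) =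
      f4Quad l.a l.b l.c l.d (χ l.a * t ^ 2 ^ m) (χ l.b * t) (χ l.c * (t ^ (2 ^ m + 1) + u))
        (χ l.d * u ^ (2 * 2 ^ m)) := by
    show T * clsEl l m t u * T⁻¹ = _
    rw [clsEl, f4Q, f4Quad, f4Quad, ← f4_conj_xg _ (hlt _ (by simp)), ← f4_conj_xg _ (hlt _ (by simp)),
      ← f4_conj_xg _ (hlt _ (by simp)), ← f4_conj_xg _ (hlt _ (by simp))]
    group
    simp [T, mul_assoc]
  obtain ⟨t', u', hq⟩ := pset_cls hK l (g := ((tor hK e * Q hK l t u * (tor hK e)⁻¹ : ↥(grp K m)) : GL chevF4.Idx K))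
    (by rw [hval, cls_lprod]; exact ⟨_, rfl⟩) (tor hK e * Q hK l t u * (tor hK e)⁻¹).2.2
  refine ⟨t', u', Subtype.ext hq, fun h => ?_, fun h => ?_⟩
  · rw [hval, clsEl, f4Q] at hq
    rw [← (cls_inj l hq).2.1, h, mul_zero]
  · rw [hval, clsEl, f4Q] at hq
    have h4 := (cls_inj l hq).2.2.2
    rw [h, zero_pow (Nat.mul_ne_zero two_ne_zero (Nat.two_pow_pos m).ne'), mul_zero] at h4
    exact pow_eq_zero_iff (Nat.mul_ne_zero two_ne_zero (Nat.two_pow_pos m).ne') |>.1 h4.symm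

/-- A fixed monomial element carrying one class to another. -/
theorem cls_move (k l : Cls) (J : ℕ) (hJ : J < 2)
    (hw : [k.a, k.b, k.c, k.d].map (wperm tblF4 (twF4.lw J)) = [l.a, l.b, l.c, l.d]) :
    ∃ n : ↥(grp K m), (∀ t u, ∃ t' u', Q hK l t u = n * Q hK k t' u' * n⁻¹) ∧
      ∀ u, ∃ u', Q hK l 0 u = n * Q hK k 0 u' * n⁻¹ := by
  obtain ⟨n, hn, hfix, hd⟩ := (twOKF4 (K := K) m).rep J hJ
  set g : ↥(grp K m) := ⟨n, hn, hfix⟩
  have hword : IsWord chevF4 (twF4.lw J) := twCombF4.lw_word J hJ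
  have hlt : ∀ r ∈ [k.a, k.b, k.c, k.d], r < chevF4.nroots := fun r hr => (k.pos r hr).2
  have key : ∀ x : ↥(grp K m), n * ((g⁻¹ * x * g : ↥(grp K m)) : GL chevF4.Idx K) * n⁻¹ = (x : GL chevF4.Idx K) := fun x => by
    simp only [Subgroup.coe_mul, InvMemClass.coe_inv, g]; group
  refine ⟨g, fun t u => ?_, fun u => ?_⟩
  · have hmem : ((g⁻¹ * Q hK l t u * g : ↥(grp K m)) : GL chevF4.Idx K) ∈ Pset certF4C [k.a, k.b, k.c, k.d] := by
      refine (mono_conj_pset certF4C hword hd hlt).2 ?_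
      rw [key, hw]
      show clsEl l m t u ∈ _
      rw [clsEl, f4Q, cls_lprod]; exact ⟨_, rfl⟩
    obtain ⟨t', u', e⟩ := pset_cls hK k hmem (g⁻¹ * Q hK l t u * g).2.2
    exact ⟨t', u', by rw [← show g⁻¹ * Q hK l t u * g = Q hK k t' u' from Subtype.ext e]; group⟩
  · have hw' : [k.c, k.d].map (wperm tblF4 (twF4.lw J)) = [l.c, l.d] := by
      simp only [List.map_cons, List.map_nil, List.cons.injEq, and_true] at hw ⊢
      exact ⟨hw.2.2.1, hw.2.2.2⟩
    have hmem : ((g⁻¹ * Q hK l 0 u * g : ↥(grp K m)) : GL chevF4.Idx K) ∈ Pset certF4C [k.c, k.d] := by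
      refine (mono_conj_pset certF4C hword hd (l := [k.c, k.d]) (fun r hr => hlt r (by simp at hr ⊢; omega))).2 ?_
      rw [key, hw']
      refine ⟨fun r => if r = l.c then u else u ^ (2 * 2 ^ m), ?_⟩
      have hnd := l.nodup
      simp only [List.nodup_cons, List.mem_cons, List.not_mem_nil, or_false, not_or] at hnd
      show clsEl l m 0 u = _
      simp [clsEl, f4Q, f4Quad, lprod, xg_zero, zero_pow, Ne.symm hnd.2.2.1]
    obtain ⟨u', e⟩ := pset_ctr hK k hmem (g⁻¹ * Q hK l 0 u * g).2.2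
    exact ⟨u', by rw [← show g⁻¹ * Q hK l 0 u * g = Q hK k 0 u' from Subtype.ext e]; group⟩

omit [CharP K esymF4.p] hK in
theorem theta_zero : (0 : K) ^ (2 * 2 ^ m) = 0 := zero_pow (Nat.mul_ne_zero two_ne_zero (Nat.two_pow_pos m).ne')

/-- The layers in the classes. -/
theorem X_cls (a : K) :
    X hK 10 a = Q hK clsB a 0 ∧ X hK 8 a = Q hK clsB 0 a ∧ X hK 9 a = Q hK clsC a 0 ∧ X hK 4 a = Q hK clsC 0 a ∧
    X hK 6 a = Q hK clsE a 0 ∧ X hK 1 a = Q hK clsE 0 a ∧ X hK 7 a = Q hK clsG (a ^ (2 * 2 ^ m)) 0 ∧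
    X hK 0 a = Q hK clsG 0 a := by
  have h0 : (0 : K) ^ 2 ^ m = 0 := zero_pow (Nat.two_pow_pos m).ne'
  refine ⟨?_, ?_, ?_, ?_, ?_, ?_, ?_, ?_⟩ <;> refine Subtype.ext ((FParam.el_eq m _).trans ?_) <;>
    simp [param, Q, clsEl, clsB, clsC, clsE, clsG, f4P, f4Q, f4Pair, f4Quad, h0, xg_zero]

theorem lead_eq {j : ℕ} (hj : j < 12) {a b : K} (h : (X hK j a)⁻¹ * X hK j b ∈ spanBelow (X hK) j) : a = b := by
  have h1 := X_add hK hj a (b - a)
  rw [add_sub_cancel, _root_.mul_inv_rev, mul_assoc] at h1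
  have h2 : X hK j (b - a) ∈ spanBelow (X hK) j := by
    rw [show X hK j (b - a) = ((X hK j a)⁻¹ * X hK j b) * ((X hK j (b - a))⁻¹ * ((X hK j a)⁻¹ * X hK j b))⁻¹ by group]
    exact mul_mem h (inv_mem h1)
  exact (sub_eq_zero.1 (X_inj hK hj _ h2)).symm

theorem conj_exact {j : ℕ} (hj : j < 12) (l : Cls)
    (hX : (∀ a, X hK j a = Q hK l 0 a) ∨ ∀ a, X hK j a = Q hK l (a ^ (2 * 2 ^ m)) 0) (e : Kˣ × Kˣ) (a : K) :
    tor hK e * X hK j a * (tor hK e)⁻¹ = X hK j (lam m e j * a) := by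
  have hc : ∃ c, tor hK e * X hK j a * (tor hK e)⁻¹ = X hK j c := by
    rcases hX with hX | hX
    · obtain ⟨t', u', h, ht, -⟩ := tor_cls hK l e 0 a
      exact ⟨u', by rw [hX, hX, h, ht rfl]⟩
    · obtain ⟨t', u', h, -, hu⟩ := tor_cls hK l e (a ^ (2 * 2 ^ m)) 0
      refine ⟨t' ^ 2 ^ m, ?_⟩
      rw [hX, hX, h, hu rfl, ← pow_mul, show 2 ^ m * (2 * 2 ^ m) = 2 ^ m * (2 ^ m * 2) by ring, pow_mul, f4_theta hK]
  obtain ⟨c, hc⟩ := hc
  have := X_conj hK e hj a
  rw [hc] at this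
  rw [hc, lead_eq hK hj this]

theorem ctr_add (l : Cls) {j : ℕ} (hX : ∀ a, X hK j a = Q hK l 0 a) (a b : K) :
    X hK j (a + b) = X hK j a * X hK j b := by
  rw [hX, hX, hX, Q_mul_ctr]

theorem G_add (a b : K) :
    ∃ u, X hK 7 (a + b) = X hK 7 a * X hK 7 b * X hK 0 u := by
  obtain ⟨t, ht⟩ : ∃ t, t = a ^ (2 * 2 ^ m) := ⟨_, rfl⟩
  obtain ⟨s, hs⟩ : ∃ s, s = b ^ (2 * 2 ^ m) := ⟨_, rfl⟩
  refine ⟨t ^ 2 ^ m * s, ?_⟩
  rw [(X_cls hK _).2.2.2.2.2.2.1, (X_cls hK _).2.2.2.2.2.2.1, (X_cls hK _).2.2.2.2.2.2.1, (X_cls hK _).2.2.2.2.2.2.2,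
    mul_assoc, Q_mul_ctr, show (a + b) ^ (2 * 2 ^ m) = t + s by rw [ht, hs, ← pow_succ']; exact f4_add_pow _ _ _,
    ← ht, ← hs, zero_add]
  refine Subtype.ext ?_
  show f4Q m 29 41 44 47 (t + s) 0 = f4Q m 29 41 44 47 t 0 * f4Q m 29 41 44 47 s (t ^ 2 ^ m * s)
  have hw : (t ^ 2 ^ m * s) ^ (2 * 2 ^ m) = t * (s ^ 2 ^ m) ^ 2 := by
    rw [mul_pow, ← pow_mul, show 2 ^ m * (2 * 2 ^ m) = 2 ^ m * (2 ^ m * 2) by ring, pow_mul, f4_theta hK, ← pow_mul,
      mul_comm 2]
  have sw : ∀ u v : K, xg certF4C 41 u * xg certF4C 29 v = xg certF4C 29 v * xg certF4C 41 u *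
      (xg certF4C 44 (v * u) * xg certF4C 47 (v ^ 2 * u)) := fun u v => by
    have e := xg_swap certF4C fullCertF4 (F := K) (r := 29) (s := 41) (show 29 < 48 by decide) (show 41 < 48 by decide)
      (by decide) (by decide +kernel) v u
    rw [show oddTerms tblF4 29 41 = [(44, 1, 1), (47, 2, 1)] by decide +kernel] at e
    simpa using e
  have c44 : ∀ u v : K, Commute (xg certF4C 44 u) (xg certF4C 29 v) := fun u v => comm_of (by decide) u v
  have c44' : ∀ u v : K, Commute (xg certF4C 44 u) (xg certF4C 41 v) := fun u v => comm_of (by decide) u v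
  have c47' : ∀ u v : K, Commute (xg certF4C 47 u) (xg certF4C 41 v) := fun u v => comm_of (by decide) u v
  have c47 : ∀ u v : K, Commute (xg certF4C 44 u) (xg certF4C 47 v) := fun u v =>
    xg_commute_mod certF4C fullCertF4.comm (show chkCommMod 2 tblF4 44 47 = true by decide +kernel) u v
  simp only [f4Q, f4Quad, theta_zero, xg_zero, mul_one, add_zero]
  rw [f4_add_pow t s m, hw]
  set A := t ^ 2 ^ m
  set B := s ^ 2 ^ m
  have eA : t ^ (2 ^ m + 1) = A * t := pow_succ t _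
  have eB : s ^ (2 ^ m + 1) = B * s := pow_succ s _
  have eAB : (t + s) ^ (2 ^ m + 1) = (A + B) * (t + s) := by rw [pow_succ, f4_add_pow]
  rw [eA, eB, eAB]
  symm
  calc xg certF4C 29 A * xg certF4C 41 t * xg certF4C 44 (A * t) *
        (xg certF4C 29 B * xg certF4C 41 s * xg certF4C 44 (B * s + A * s) * xg certF4C 47 (t * B ^ 2))
      = xg certF4C 29 A * xg certF4C 41 t * (xg certF4C 44 (A * t) * xg certF4C 29 B) * xg certF4C 41 s *
          xg certF4C 44 (B * s + A * s) * xg certF4C 47 (t * B ^ 2) := by group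
    _ = xg certF4C 29 A * (xg certF4C 41 t * xg certF4C 29 B) * (xg certF4C 44 (A * t) * xg certF4C 41 s) *
          xg certF4C 44 (B * s + A * s) * xg certF4C 47 (t * B ^ 2) := by rw [(c44 _ _).eq]; group
    _ = xg certF4C 29 A * xg certF4C 29 B * xg certF4C 41 t * (xg certF4C 44 (B * t) *
          (xg certF4C 47 (B ^ 2 * t) * xg certF4C 41 s)) * xg certF4C 44 (A * t) *
          xg certF4C 44 (B * s + A * s) * xg certF4C 47 (t * B ^ 2) := by rw [sw, (c44' _ _).eq]; group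
    _ = xg certF4C 29 A * xg certF4C 29 B * xg certF4C 41 t * (xg certF4C 44 (B * t) * xg certF4C 41 s) *
          (xg certF4C 47 (B ^ 2 * t) * (xg certF4C 44 (A * t) * xg certF4C 44 (B * s + A * s))) *
          xg certF4C 47 (t * B ^ 2) := by rw [(c47' _ _).eq]; group
    _ = xg certF4C 29 A * xg certF4C 29 B * (xg certF4C 41 t * xg certF4C 41 s) *
          (xg certF4C 44 (B * t) * (xg certF4C 44 (A * t) * xg certF4C 44 (B * s + A * s))) *
          (xg certF4C 47 (B ^ 2 * t) * xg certF4C 47 (t * B ^ 2)) := by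
        rw [(c44' _ _).eq, xg_add certF4C 44 (A * t), ← (c47 _ _).eq]; group
    _ = _ := by
        simp only [xg_add]
        rw [show B ^ 2 * t + t * B ^ 2 = 0 by rw [mul_comm]; exact CharTwo.add_self_eq_zero _, xg_zero, mul_one,
          show B * t + (A * t + (B * s + A * s)) = (A + B) * (t + s) by ring]

/-- The centre of the fourth class consists of commutators. -/
theorem comm_DC (c : K) :
    ⁅(⟨f4P m 37 32 1, f4P_fixed hK chkF4Classes.1 1⟩ : ↥(grp K m)), X hK 4 c⁆ = X hK 0 c := by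
  rw [(X_cls hK c).2.2.2.1, (X_cls hK c).2.2.2.2.2.2.2]
  refine Subtype.ext ?_
  show ⁅f4P m 37 32 (1 : K), f4Q m 34 26 36 42 0 c⁆ = f4Q m 29 41 44 47 0 c
  simp only [f4P, f4Pair, f4Q, f4Quad, one_pow, zero_pow (Nat.two_pow_pos m).ne', zero_pow (Nat.succ_ne_zero (2 ^ m)),
    zero_add, xg_zero, one_mul]
  set d := c ^ (2 * 2 ^ m)
  have h42 := swap_one (K := K) (r := 32) (s := 42) (o := 47) (by decide) (by decide) (by decide) (by decide +kernel)
    (by decide +kernel) 1 d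
  have h36 := swap_one (K := K) (r := 37) (s := 36) (o := 44) (by decide) (by decide) (by decide) (by decide +kernel)
    (by decide +kernel) 1 c
  have k1 : ∀ u : K, xg certF4C 32 1 * xg certF4C 36 u * (xg certF4C 32 (1 : K))⁻¹ = xg certF4C 36 u := fun u => by
    rw [(comm_of (r := 32) (s := 36) (by decide) (1 : K) u).eq, mul_inv_cancel_right]
  have k2 : ∀ u : K, xg certF4C 37 1 * xg certF4C 42 u * (xg certF4C 37 (1 : K))⁻¹ = xg certF4C 42 u := fun u => by
    rw [(comm_of (r := 37) (s := 42) (by decide) (1 : K) u).eq, mul_inv_cancel_right]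
  have k3 : ∀ u : K, xg certF4C 37 1 * xg certF4C 47 u * (xg certF4C 37 (1 : K))⁻¹ = xg certF4C 47 u := fun u => by
    rw [(comm_of (r := 37) (s := 47) (by decide) (1 : K) u).eq, mul_inv_cancel_right]
  rw [one_mul] at h42 h36
  have hconj : xg certF4C 37 1 * xg certF4C 32 1 * (xg certF4C 36 c * xg certF4C 42 d) *
      (xg certF4C 37 1 * xg certF4C 32 (1 : K))⁻¹ =
      (xg certF4C 36 c * xg certF4C 44 c) * (xg certF4C 42 d * xg certF4C 47 d) := by
    calc _ = (xg certF4C 37 1 * (xg certF4C 32 1 * xg certF4C 36 c * (xg certF4C 32 (1 : K))⁻¹) * (xg certF4C 37 (1 : K))⁻¹) *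
          (xg certF4C 37 1 * (xg certF4C 32 1 * xg certF4C 42 d * (xg certF4C 32 (1 : K))⁻¹) * (xg certF4C 37 (1 : K))⁻¹) := by
            group
      _ = (xg certF4C 36 c * xg certF4C 44 c) * ((xg certF4C 37 1 * xg certF4C 42 d * (xg certF4C 37 (1 : K))⁻¹) *
          (xg certF4C 37 1 * xg certF4C 47 d * (xg certF4C 37 (1 : K))⁻¹)) := by rw [k1, h36, h42]; group
      _ = _ := by rw [k2, k3]
  rw [commutatorElement_def, hconj]
  have c36 : ∀ u v : K, Commute (xg certF4C 44 u) (xg certF4C 36 v) := fun u v => comm_of (by decide) u v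
  have c42 : ∀ u v : K, Commute (xg certF4C 44 u) (xg certF4C 42 v) := fun u v => comm_of (by decide) u v
  have c47 : ∀ u v : K, Commute (xg certF4C 47 u) (xg certF4C 36 v) := fun u v => comm_of (by decide) u v
  have c4742 : ∀ u v : K, Commute (xg certF4C 47 u) (xg certF4C 42 v) := fun u v =>
    xg_commute_mod certF4C fullCertF4.comm (show chkCommMod 2 tblF4 47 42 = true by decide +kernel) u v
  have hA : Commute (xg certF4C 44 c * xg certF4C 47 d) (xg certF4C 36 c * xg certF4C 42 d) :=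
    ((c36 c c).mul_right (c42 c d)).mul_left ((c47 d c).mul_right (c4742 d d))
  rw [show xg certF4C 36 c * xg certF4C 44 c * (xg certF4C 42 d * xg certF4C 47 d) =
      xg certF4C 36 c * (xg certF4C 44 c * xg certF4C 42 d) * xg certF4C 47 d by group, (c42 c d).eq,
    show xg certF4C 36 c * (xg certF4C 42 d * xg certF4C 44 c) * xg certF4C 47 d =
      (xg certF4C 36 c * xg certF4C 42 d) * (xg certF4C 44 c * xg certF4C 47 d) by group, ← hA.eq, mul_inv_cancel_right]

/-- The conjugate of the middle pair element. -/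
theorem conj_GD (a : K) :
    X hK 7 a * (⟨f4P m 37 32 1, f4P_fixed hK chkF4Classes.1 1⟩ : ↥(grp K m)) * (X hK 7 a)⁻¹ =
      (⟨f4P m 37 32 1, f4P_fixed hK chkF4Classes.1 1⟩ : ↥(grp K m)) * X hK 1 ((a ^ (2 * 2 ^ m)) ^ 2 ^ m) := by
  rw [(X_cls hK a).2.2.2.2.2.2.1, (X_cls hK _).2.2.2.2.2.1]
  obtain ⟨t, ht⟩ : ∃ t, t = a ^ (2 * 2 ^ m) := ⟨_, rfl⟩
  rw [← ht]
  refine Subtype.ext ?_
  show f4Q m 29 41 44 47 t 0 * f4P m 37 32 (1 : K) * (f4Q m 29 41 44 47 t 0)⁻¹ =
    f4P m 37 32 (1 : K) * f4Q m 35 31 40 46 0 (t ^ 2 ^ m)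
  simp only [f4P, f4Pair, f4Q, f4Quad, one_pow, zero_pow (Nat.two_pow_pos m).ne', zero_pow (Nat.succ_ne_zero (2 ^ m)),
    theta_zero, add_zero, zero_add, xg_zero, one_mul, mul_one]
  rw [show (t ^ 2 ^ m) ^ (2 * 2 ^ m) = t by rw [mul_comm 2]; exact f4_theta hK t]
  set A := t ^ 2 ^ m
  set E := t ^ (2 ^ m + 1)
  have h32 := swap_one (K := K) (r := 41) (s := 32) (o := 46) (by decide) (by decide) (by decide) (by decide +kernel)
    (by decide +kernel) t 1
  have h37 := swap_one (K := K) (r := 29) (s := 37) (o := 40) (by decide) (by decide) (by decide) (by decide +kernel)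
    (by decide +kernel) A 1
  rw [mul_one] at h32 h37
  have k : ∀ {r s : ℕ}, (∀ p q : K, Commute (xg certF4C r p) (xg certF4C s q)) → ∀ p q : K,
      xg certF4C r p * xg certF4C s q * (xg certF4C r p)⁻¹ = xg certF4C s q := fun hc p q => by
    rw [(hc p q).eq, mul_inv_cancel_right]
  have k1 := k (r := 44) (s := 37) (fun p q => comm_of (by decide) p q)
  have k2 := k (r := 44) (s := 32) (fun p q => comm_of (by decide) p q)
  have k3 := k (r := 41) (s := 37) (fun p q => comm_of (by decide) p q)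
  have k4 := k (r := 29) (s := 32) (fun p q => comm_of (by decide) p q)
  have k5 := k (r := 29) (s := 46) (fun p q => comm_of (by decide) p q)
  calc _ = (xg certF4C 29 A * (xg certF4C 41 t * (xg certF4C 44 E * xg certF4C 37 1 * (xg certF4C 44 E)⁻¹) *
        (xg certF4C 41 t)⁻¹) * (xg certF4C 29 A)⁻¹) * (xg certF4C 29 A * (xg certF4C 41 t * (xg certF4C 44 E *
        xg certF4C 32 1 * (xg certF4C 44 E)⁻¹) * (xg certF4C 41 t)⁻¹) * (xg certF4C 29 A)⁻¹) := by group
    _ = (xg certF4C 37 1 * xg certF4C 40 A) * ((xg certF4C 29 A * xg certF4C 32 1 * (xg certF4C 29 A)⁻¹) *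
        (xg certF4C 29 A * xg certF4C 46 t * (xg certF4C 29 A)⁻¹)) := by rw [k1, k2, k3, h32, h37]; group
    _ = xg certF4C 37 1 * (xg certF4C 40 A * xg certF4C 32 1) * xg certF4C 46 t := by rw [k4, k5]; group
    _ = _ := by rw [(comm_of (r := 40) (s := 32) (by decide) A (1 : K)).eq]; group

/-- The commutations needed below. -/
theorem commute_pairs (a b : K) :
    Commute (X hK 7 a) (X hK 4 b) ∧ Commute (X hK 0 a) (X hK 4 b) ∧ Commute (X hK 1 a) (X hK 4 b) := by
  rw [(X_cls hK a).2.2.2.2.2.2.1, (X_cls hK a).2.2.2.2.2.2.2, (X_cls hK a).2.2.2.2.2.1, (X_cls hK b).2.2.2.1]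
  have h47 : ∀ u v : K, Commute (xg certF4C 47 u) (xg certF4C 42 v) := fun u v =>
    xg_commute_mod certF4C fullCertF4.comm (show chkCommMod 2 tblF4 47 42 = true by decide +kernel) u v
  have C36 : ∀ {r : ℕ}, (r, 36) ∈ [(32, 36), (37, 42), (37, 47), (44, 42), (29, 32), (29, 46), (41, 37), (44, 37),
    (44, 32), (40, 32), (44, 29), (47, 41), (44, 41), (29, 36), (29, 42), (41, 36), (41, 42), (44, 36), (47, 29),
    (47, 36), (40, 36), (40, 42), (46, 36), (46, 42)] → ∀ p q : K, Commute (xg certF4C r p) (xg certF4C 36 q) :=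
    fun h p q => comm_of h p q
  refine ⟨Subtype.ext ?_, Subtype.ext ?_, Subtype.ext ?_⟩ <;>
    show f4Q m _ _ _ _ _ _ * f4Q m _ _ _ _ _ _ = f4Q m _ _ _ _ _ _ * f4Q m _ _ _ _ _ _ <;>
    simp only [f4Q, f4Quad, clsC, clsG, clsE, theta_zero, zero_pow (Nat.two_pow_pos m).ne',
      zero_pow (Nat.succ_ne_zero (2 ^ m)), zero_add, add_zero, xg_zero, one_mul, mul_one]
  · exact (((C36 (by decide) _ _).mul_right (comm_of (by decide) _ _)).mul_left
      ((C36 (by decide) _ _).mul_right (comm_of (by decide) _ _))).mul_left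
        ((C36 (by decide) _ _).mul_right (comm_of (by decide) _ _))
  · exact ((C36 (by decide) _ _).mul_right (comm_of (by decide) _ _)).mul_left
      ((C36 (by decide) _ _).mul_right (h47 _ _))
  · exact ((C36 (by decide) _ _).mul_right (comm_of (by decide) _ _)).mul_left
      ((C36 (by decide) _ _).mul_right (comm_of (by decide) _ _))

end Field

variable {K : Type u} [Field K] [CharP K esymF4.p] [Fintype K] {m : ℕ} (hK : Fintype.card K = 2 ^ (2 * m + 1))
include hK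

local instance charTwoTwoPart2 : CharP K 2 := inferInstanceAs (CharP K esymF4.p)

variable (hm : 1 ≤ m) {Γ : Type u} [Group Γ] [Finite Γ] {σ : Γ →* ↥(grp K m)} (hs : Function.Surjective σ)
  (hc : σ.ker ≤ Subgroup.center Γ)
include hm hs hc

/-- The centre of a class commutes with its class in every central extension. -/
theorem special_lcomm : ∀ i j, special j i = true → ∀ a b, LComm σ (X hK i a) (X hK j b) := by
  haveI : Fact (Nat.Prime 2) := ⟨Nat.prime_two⟩
  obtain ⟨-, hsep⟩ := sep hK hm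
  have h0 : ∀ a, X hK 0 a = Q hK clsG 0 a := fun a => (X_cls hK a).2.2.2.2.2.2.2
  have h1 : ∀ a, X hK 1 a = Q hK clsE 0 a := fun a => (X_cls hK a).2.2.2.2.2.1
  have h4 : ∀ a, X hK 4 a = Q hK clsC 0 a := fun a => (X_cls hK a).2.2.2.1
  have h7 : ∀ a, X hK 7 a = Q hK clsG (a ^ (2 * 2 ^ m)) 0 := fun a => (X_cls hK a).2.2.2.2.2.2.1
  -- pairs with exact weights
  have pairC : ∀ i, i = 0 ∨ i = 1 → ∀ a b, LComm σ (X hK i a) (X hK 4 b) := by
    intro i hi
    obtain ⟨e, -, hne⟩ := hsep i (by omega) 4 (by norm_num) (by omega) (Or.inl (by rcases hi with rfl | rfl <;> rfl))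
    have hswap : ∀ k : ℕ, lam m e i ^ 2 ^ k * lam m e 4 ≠ 1 := by
      intro k h
      refine hne ((2 * m + 1) - k % (2 * m + 1)) ?_
      have hk : k % (2 * m + 1) < 2 * m + 1 := Nat.mod_lt _ (Nat.succ_pos _)
      rw [MultW.pow_frob_mod hK] at h
      have h' := congrArg (· ^ 2 ^ (2 * m + 1 - k % (2 * m + 1))) h
      simp only [mul_pow, one_pow, ← pow_mul, ← pow_add, Nat.add_sub_cancel' hk.le] at h'
      rw [← hK, FiniteField.pow_card] at h'
      rwa [mul_comm]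
    refine lcomm_pair hs hc 2 (X hK i) (X hK 4) (tor hK e) ?_ ?_ (fun a b => ctr_add hK clsC h4 a b) ?_
      (fun a => conj_exact hK (by norm_num) clsC (Or.inl h4) e a) (lam_ne _ _) hswap
    · intro a b
      rcases hi with rfl | rfl
      exacts [(commute_pairs hK a b).2.1, (commute_pairs hK a b).2.2]
    · intro a a'
      refine ⟨1, fun b => lcomm_symm (lcomm_one hs hc _), ?_⟩
      rw [mul_one]
      rcases hi with rfl | rfl
      exacts [ctr_add hK clsG h0 a a', ctr_add hK clsE h1 a a']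
    · intro a
      rcases hi with rfl | rfl
      exacts [conj_exact hK (by norm_num) clsG (Or.inl h0) e a, conj_exact hK (by norm_num) clsE (Or.inl h1) e a]
  have pairG : ∀ a b, LComm σ (X hK 7 a) (X hK 4 b) := by
    obtain ⟨e, hmu, hne⟩ := hsep 4 (by norm_num) 7 (by norm_num) (by norm_num) (Or.inl rfl)
    refine lcomm_pair hs hc 2 (X hK 7) (X hK 4) (tor hK e) (fun a b => (commute_pairs hK a b).1) (fun a a' => ?_)
      (fun a b => ctr_add hK clsC h4 a b) (fun a => conj_exact hK (by norm_num) clsG (Or.inr h7) e a)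
      (fun a => conj_exact hK (by norm_num) clsC (Or.inl h4) e a) hmu hne
    obtain ⟨u, hu⟩ := G_add hK a a'
    exact ⟨_, fun b => pairC 0 (Or.inl rfl) u b, hu⟩
  have base : ∀ a c, LComm σ (X hK 7 a) (X hK 0 c) := by
    intro a c Gt Z hGt hZ
    obtain ⟨Dt, hD⟩ := hs (⟨f4P m 37 32 1, f4P_fixed hK chkF4Classes.1 1⟩ : ↥(grp K m))
    obtain ⟨Ct, hC⟩ := hs (X hK 4 c)
    obtain ⟨Et, hE⟩ := hs (X hK 1 ((a ^ (2 * 2 ^ m)) ^ 2 ^ m))
    have hGC : Gt * Ct * Gt⁻¹ = Ct := mul_inv_eq_of_eq_mul (pairG a c _ _ hGt hC)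
    have hEC : Commute Et Ct := pairC 1 (Or.inr rfl) _ c _ _ hE hC
    have hz : Gt * Dt * Gt⁻¹ * (Dt * Et)⁻¹ ∈ σ.ker := by
      rw [MonoidHom.mem_ker, map_mul, map_inv, map_mul, map_mul, map_mul, map_inv, hGt, hD, hE, conj_GD hK,
        mul_inv_cancel]
    have hconj : Gt * ⁅Dt, Ct⁆ * Gt⁻¹ = ⁅Dt, Ct⁆ := by
      rw [show Gt * ⁅Dt, Ct⁆ * Gt⁻¹ = ⁅Gt * Dt * Gt⁻¹, Gt * Ct * Gt⁻¹⁆ by simp only [commutatorElement_def]; group, hGC,
        show Gt * Dt * Gt⁻¹ = Gt * Dt * Gt⁻¹ * (Dt * Et)⁻¹ * (Dt * Et) by group]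
      set z := Gt * Dt * Gt⁻¹ * (Dt * Et)⁻¹
      calc ⁅z * (Dt * Et), Ct⁆ = z * (Dt * (Et * Ct * Et⁻¹) * Dt⁻¹) * z⁻¹ * Ct⁻¹ := by
            simp only [commutatorElement_def]; group
        _ = _ := by
          rw [hEC.eq, mul_inv_cancel_right, ← mem_center_comm hc hz, mul_inv_cancel_right, commutatorElement_def]
    have hk : Z * ⁅Dt, Ct⁆⁻¹ ∈ σ.ker := by
      rw [MonoidHom.mem_ker, map_mul, map_inv, map_commutatorElement, hD, hC, comm_DC hK c, hZ, mul_inv_cancel]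
    have hcomm : Commute Gt ⁅Dt, Ct⁆ := mul_inv_eq_iff_eq_mul.1 hconj
    have := (show Commute Gt (Z * ⁅Dt, Ct⁆⁻¹) from mem_center_comm hc hk Gt).mul_right hcomm
    rwa [inv_mul_cancel_right] at this
  -- transport to the other classes
  have move : ∀ (k l : Cls) (J : ℕ), J < 2 → [k.a, k.b, k.c, k.d].map (wperm tblF4 (twF4.lw J)) = [l.a, l.b, l.c, l.d] →
      (∀ t u v, LComm σ (Q hK k t u) (Q hK k 0 v)) → ∀ t u v, LComm σ (Q hK l t u) (Q hK l 0 v) := by
    intro k l J hJ hw hk t u v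
    obtain ⟨n, hn, hn'⟩ := cls_move hK k l J hJ hw
    obtain ⟨t', u', e⟩ := hn t u
    obtain ⟨v', e'⟩ := hn' v
    rw [e, e']
    intro A B hA hB
    obtain ⟨N, hN⟩ := hs n
    have h1 := hk t' u' v' (N⁻¹ * A * N) (N⁻¹ * B * N) (by rw [map_mul, map_mul, map_inv, hN, hA]; group)
      (by rw [map_mul, map_mul, map_inv, hN, hB]; group)
    calc A * B = N * (N⁻¹ * A * N * (N⁻¹ * B * N)) * N⁻¹ := by group
      _ = N * (N⁻¹ * B * N * (N⁻¹ * A * N)) * N⁻¹ := by rw [h1]
      _ = B * A := by group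
  have hG : ∀ t u v, LComm σ (Q hK clsG t u) (Q hK clsG 0 v) := by
    intro t u v
    have h00 : ∀ p q, LComm σ (X hK 0 p) (X hK 0 q) := by
      obtain ⟨e, hmu, hne⟩ := hsep 0 (by norm_num) 0 (by norm_num) le_rfl (Or.inl rfl)
      exact lcomm_pair hs hc 2 (X hK 0) (X hK 0) (tor hK e)
        (fun p q => by show _ = _; rw [← ctr_add hK clsG h0, ← ctr_add hK clsG h0, add_comm])
        (fun p p' => ⟨1, fun b => lcomm_symm (lcomm_one hs hc _), by rw [mul_one]; exact ctr_add hK clsG h0 p p'⟩)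
        (fun p q => ctr_add hK clsG h0 p q) (fun p => conj_exact hK (by norm_num) clsG (Or.inl h0) e p)
        (fun p => conj_exact hK (by norm_num) clsG (Or.inl h0) e p) hmu hne
    have e : Q hK clsG t u = X hK 7 (t ^ 2 ^ m) * X hK 0 u := by
      rw [h7, h0, Q_mul_ctr, zero_add, ← pow_mul, show 2 ^ m * (2 * 2 ^ m) = 2 ^ m * (2 ^ m * 2) by ring, pow_mul,
        f4_theta hK]
    rw [e, ← h0]
    exact lcomm_mul hs (base _ v) (h00 u v)
  have hE := move clsG clsE 0 (by norm_num) (by decide +kernel) hG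
  have hC := move clsE clsC 1 (by norm_num) (by decide +kernel) hE
  have hB := move clsC clsB 0 (by norm_num) (by decide +kernel) hC
  intro i j h a b
  simp only [special, List.contains_iff_mem, List.mem_cons, Prod.mk.injEq, List.not_mem_nil, or_false] at h
  rcases h with ⟨rfl, rfl⟩ | ⟨rfl, rfl⟩ | ⟨rfl, rfl⟩ | ⟨rfl, rfl⟩
  · rw [(X_cls hK a).1, (X_cls hK b).2.1]; exact hB _ _ _
  · rw [(X_cls hK a).2.2.1, (X_cls hK b).2.2.2.1]; exact hC _ _ _
  · rw [(X_cls hK a).2.2.2.2.1, h1]; exact hE _ _ _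
  · rw [h7, h0]; exact hG _ _ _

/-- No stem extension with kernel of order two. -/
theorem two_part (hcard : Nat.card σ.ker = 2) : ¬ σ.ker ≤ commutator Γ := by
  haveI : Fact (Nat.Prime 2) := ⟨Nat.prime_two⟩
  obtain ⟨hmoved, hsep⟩ := sep hK hm
  have hP : IsPGroup 2 ↥(spanBelow (X hK) 12) := IsPGroup.of_card (n := (2 * m + 1) * 12) (by rw [card_span hK, ← pow_mul])
  have hidx : ¬ 2 ∣ (spanBelow (X hK) 12).index := by
    have hmul := (spanBelow (X hK) 12).card_mul_index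
    rw [card_span hK, show Nat.card ↥(grp K m) = _ from (twistedF4_eq hK ▸ twistedF4_order hK), mul_assoc, mul_assoc,
      mul_assoc] at hmul
    rw [Nat.eq_of_mul_eq_mul_left (pow_pos (Nat.two_pow_pos _) 12) hmul]
    set q := 2 ^ (2 * m + 1) with hq
    have he : 2 ∣ q := dvd_pow_self 2 (by omega)
    have hq1 : 1 ≤ q := Nat.one_le_two_pow
    intro hd
    rcases Nat.prime_two.dvd_mul.1 hd with h | h
    · omega
    rcases Nat.prime_two.dvd_mul.1 h with h | h
    · have := (Nat.dvd_add_right (dvd_pow he (by norm_num))).1 h; omega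
    rcases Nat.prime_two.dvd_mul.1 h with h | h
    · have h4 : 1 ≤ q ^ 4 := Nat.one_le_pow _ _ hq1
      have h5 : 2 ∣ q ^ 4 := dvd_pow he (by norm_num)
      omega
    · have := (Nat.dvd_add_right (dvd_pow he (by norm_num))).1 h; omega
  refine (chain hK hmoved).not_le hs hc 2 (fun j hj i hi hji => ?_) hcard (hP.toSylow hidx) (le_of_eq rfl)
  have hj' : j < 12 := hj
  have hi' : i < 12 := hi
  cases hsp : special j i with
  | false => exact Or.inl (hsep j hj' i hi' hji (Or.inl hsp))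
  | true => exact Or.inr (special_lcomm hK hm hs hc i j hsp)

end Cfsg.Lib.Chev.TwMult.Ree
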