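import Cfsg.Agent.Lib.Chev.TwMult.Ree.Roots
import Cfsg.Agent.Lib.Chev.MultSuzuki

/-!
The torus weights of the layers of ²F₄(q) separate all pairs of layers, apart from the four central pairs at `q = 8`.
-/

set_option autoImplicit false
set_option linter.unusedSectionVars false
set_option maxRecDepth 100000

namespace Cfsg.Lib.Chev.TwMult.Ree

open Cfsg.Lie Cfsg.Lib.Chev Cfsg.Lib.Chev.TwMult

/-- The Cartan columns of the leading roots. -/
def col : ℕ → List ℤ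
  | 0 => [1, 0, 0, 0]
  | 1 => [-1, 1, 0, 0]
  | 2 => [0, -1, 1, 0]
  | 3 => [0, 1, -1, 1]
  | 4 => [1, -1, 0, 1]
  | 5 => [-2, 0, 1, 0]
  | 6 => [-2, 2, -1, 1]
  | 7 => [-1, 0, 0, 1]
  | 8 => [-1, 0, 1, -1]
  | 9 => [0, -2, 1, 1]
  | 10 => [0, -2, 2, -1]
  | _ => [0, 0, -1, 2]

theorem cartan_col : ∀ j < 12, ∀ i < 4, tblF4.cartan i (24 + lead j) = (col j).getD i 0 := by decide +kernel

/-- The exponents of the weight in the first parameter. -/
def expA (T : ℤ) (j : ℕ) : ℤ := T * (col j).getD 0 0 + (col j).getD 3 0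

/-- The exponents of the weight in the second parameter. -/
def expB (T : ℤ) (j : ℕ) : ℤ := T * (col j).getD 1 0 + (col j).getD 2 0

/-- The pairs of a class of type B₂ with its centre. -/
def special (j i : ℕ) : Bool := [(8, 10), (4, 9), (1, 6), (0, 7)].contains (j, i)

/-- The coefficients of the determinant. -/
def dq (j i : ℕ) : ℤ × ℤ × ℤ :=
  let c := fun k s => (col k).getD s 0
  (c j 0 * c i 1 - c i 0 * c j 1, c j 0 * c i 2 + c j 3 * c i 1 - c i 0 * c j 2 - c i 3 * c j 1,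
    c j 3 * c i 2 - c i 3 * c j 2)

theorem dq_eq (T : ℤ) (j i : ℕ) : expB T i * expA T j - expA T i * expB T j =
    (dq j i).1 * T ^ 2 + (dq j i).2.1 * T + (dq j i).2.2 := by
  simp only [dq, expA, expB]; ring

/-- The requirements on the determinant of a pair. -/
def dqOk (j i : ℕ) : Bool :=
  special j i || (Nat.ble (dq j i).2.1.natAbs 6 && Nat.ble (2 * (dq j i).2.2 + (dq j i).1).natAbs 8 &&
    ((dq j i).2.1 != 0 || 2 * (dq j i).2.2 + (dq j i).1 != 0) &&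
    ((dq j i).1 * 4 + (dq j i).2.1 * 2 + (dq j i).2.2) % 7 != 0 &&
    ((dq j i).1 * 16 + (dq j i).2.1 * 4 + (dq j i).2.2) % 31 != 0)

theorem dq_ok : ∀ i < 12, ∀ j < i, dqOk j i = true := by decide +kernel

theorem dq_facts : ∀ i < 12, ∀ j < i, special j i = false →
    ((dq j i).2.1.natAbs ≤ 6 ∧ (2 * (dq j i).2.2 + (dq j i).1).natAbs ≤ 8 ∧
      ((dq j i).2.1 ≠ 0 ∨ 2 * (dq j i).2.2 + (dq j i).1 ≠ 0)) ∧
    ¬ (7 : ℤ) ∣ (dq j i).1 * 4 + (dq j i).2.1 * 2 + (dq j i).2.2 ∧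
    ¬ (31 : ℤ) ∣ (dq j i).1 * 16 + (dq j i).2.1 * 4 + (dq j i).2.2 := by
  intro i hi j hj h
  have := dq_ok i hi j hj
  simp only [dqOk, h, Bool.false_or, Bool.and_eq_true, Bool.or_eq_true, Nat.ble_eq, bne_iff_ne, ne_eq] at this
  obtain ⟨⟨⟨⟨h1, h2⟩, h3⟩, h4⟩, h5⟩ := this
  exact ⟨⟨h1, h2, h3⟩, fun hd => h4 (Int.emod_eq_zero_of_dvd hd), fun hd => h5 (Int.emod_eq_zero_of_dvd hd)⟩

/-- Every layer meets another one in a pair which is not special. -/
theorem exists_partner : ∀ j < 12, ∃ i < 12, (j < i ∧ special j i = false) ∨ (i < j ∧ special i j = false) := by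
  decide +kernel

variable {K : Type*} [Field K] [CharP K esymF4.p] [Fintype K] {m : ℕ}

local instance charTwoWeights1 : CharP K 2 := inferInstanceAs (CharP K esymF4.p)

theorem lam_eq (v s : Kˣ) {j : ℕ} (hj : j < 12) :
    lam m (v, s) j = ((v ^ expA (2 ^ m) j * s ^ expB (2 ^ m) j : Kˣ) : K) := by
  have e : ∀ i < 4, extend' (f4Par m v s) i =
      [(((v ^ 2 ^ m : Kˣ)) : K), ((s ^ 2 ^ m : Kˣ) : K), (s : K), (v : K)].getD i 0 := by
    intro i hi
    rw [extend', dif_pos (show i < chevF4.rank from hi)]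
    interval_cases i <;> simp [f4Par] <;> rfl
  have e2 : ∀ (x : Kˣ) (c : ℤ), ((x ^ 2 ^ m : Kˣ) : K) ^ c = ((x ^ ((2 : ℤ) ^ m * c) : Kˣ) : K) := fun x c => by
    rw [← Units.val_zpow_eq_zpow_val, ← zpow_natCast, ← zpow_mul]; push_cast; rfl
  rw [lam, chr, show chevF4.rank = 4 from rfl, Finset.prod_range_succ, Finset.prod_range_succ, Finset.prod_range_succ,
    Finset.prod_range_one, e 0 (by norm_num), e 1 (by norm_num), e 2 (by norm_num), e 3 (by norm_num),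
    cartan_col j hj 0 (by norm_num), cartan_col j hj 1 (by norm_num), cartan_col j hj 2 (by norm_num),
    cartan_col j hj 3 (by norm_num)]
  simp only [List.getD_cons_zero, List.getD_cons_succ]
  rw [e2, e2, ← Units.val_zpow_eq_zpow_val, ← Units.val_zpow_eq_zpow_val, ← Units.val_mul, ← Units.val_mul,
    ← Units.val_mul, expA, expB, zpow_add, zpow_add]
  congr 1
  simp only [mul_assoc, mul_comm, mul_left_comm]

theorem lam_ne (i : Kˣ × Kˣ) (j : ℕ) : lam m i j ≠ 0 := by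
  rw [lam, chr]
  exact Finset.prod_ne_zero_iff.2 fun k _ => zpow_ne_zero _ (extend'_ne _ _)

variable (hK : Fintype.card K = 2 ^ (2 * m + 1))
include hK

/-- An element equal to the inverse of one of its conjugates is trivial. -/
theorem pow_self_ne {x : K} (hx : x ≠ 1) (e : ℕ) : x ^ 2 ^ e * x ≠ 1 := by
  intro h
  have hx0 : x ≠ 0 := fun h0 => by rw [h0, mul_zero] at h; exact zero_ne_one h
  have hinv : x ^ 2 ^ e = x⁻¹ := eq_inv_of_mul_eq_one_left h
  have hit : ∀ k : ℕ, x ^ 2 ^ (e * k) = if Even k then x else x⁻¹ := by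
    intro k
    induction k with
    | zero => simp
    | succ k ih =>
      rw [Nat.mul_succ, pow_add, pow_mul, ih]
      by_cases hk : Even k
      · rw [if_pos hk, if_neg (fun h' => Nat.even_add_one.1 h' hk), hinv]
      · rw [if_neg hk, if_pos (Nat.even_add_one.2 hk), inv_pow, hinv, inv_inv]
  have hper : ∀ k : ℕ, x ^ 2 ^ ((2 * m + 1) * k) = x := by
    intro k
    induction k with
    | zero => simp
    | succ k ih => rw [Nat.mul_succ, pow_add, pow_mul, ih, ← hK, FiniteField.pow_card]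
  have h1 := hit (2 * m + 1)
  rw [if_neg (by simp [parity_simps]), mul_comm e, hper e] at h1
  refine hx ?_
  have h2 : (x - 1) ^ 2 = 0 := by
    have : x * x = 1 := by nth_rewrite 2 [h1]; exact mul_inv_cancel₀ hx0
    rw [sub_sq, one_pow, mul_one, sq, this, show (2 : K) = 0 from CharTwo.two_eq_zero, zero_mul, sub_zero,
      CharTwo.add_self_eq_zero]
  exact sub_eq_zero.1 (pow_eq_zero_iff two_ne_zero |>.1 h2)

variable (hm : 1 ≤ m)
include hm

theorem exists_gen : ∃ g : Kˣ, ∀ k : ℤ, g ^ k = 1 ↔ (2 * (2 : ℤ) ^ (2 * m) - 1) ∣ k := by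
  obtain ⟨g, hg⟩ := IsCyclic.exists_ofOrder_eq_natCard (α := Kˣ)
  rw [Nat.card_units, Nat.card_eq_fintype_card, hK] at hg
  refine ⟨g, fun k => ?_⟩
  rw [← orderOf_dvd_iff_zpow_eq_one, hg, Nat.cast_sub Nat.one_le_two_pow]
  push_cast
  rw [pow_succ']

theorem det_ne {i j : ℕ} (hi : i < 12) (hj : j < i) (h : special j i = false) :
    ¬ (2 * (2 : ℤ) ^ (2 * m) - 1) ∣ (expB (2 ^ m) i * expA (2 ^ m) j - expA (2 ^ m) i * expB (2 ^ m) j) := by
  obtain ⟨⟨h1, h2, h3⟩, h7, h31⟩ := dq_facts i hi j hj h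
  rw [dq_eq]
  rcases (show m = 1 ∨ m = 2 ∨ 3 ≤ m by omega) with rfl | rfl | hm3
  · norm_num at h7 ⊢; exact h7
  · norm_num at h31 ⊢; exact h31
  intro hd
  have hT8 : (8 : ℤ) ≤ 2 ^ m := by
    calc (8 : ℤ) = 2 ^ 3 := by norm_num
      _ ≤ 2 ^ m := pow_le_pow_right₀ (by norm_num) hm3
  set T : ℤ := 2 ^ m with hT
  have hn : (2 : ℤ) ^ (2 * m) = T ^ 2 := by rw [hT, ← pow_mul, mul_comm]
  rw [hn] at hd
  set q0 := (dq j i).1
  set q1 := (dq j i).2.1
  set q2 := (dq j i).2.2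
  have hd' : (2 * T ^ 2 - 1) ∣ 2 * q1 * T + (2 * q2 + q0) := by
    have := dvd_sub (hd.mul_left 2) (dvd_mul_left (2 * T ^ 2 - 1) q0)
    rwa [show 2 * (q0 * T ^ 2 + q1 * T + q2) - q0 * (2 * T ^ 2 - 1) = 2 * q1 * T + (2 * q2 + q0) by ring] at this
  have hz : 2 * q1 * T + (2 * q2 + q0) = 0 := by
    refine Int.eq_zero_of_abs_lt_dvd hd' (abs_lt.2 ⟨?_, ?_⟩) <;> nlinarith [(by omega : -6 ≤ q1 ∧ q1 ≤ 6),
      (by omega : -8 ≤ 2 * q2 + q0 ∧ 2 * q2 + q0 ≤ 8)]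
  rcases eq_or_ne q1 0 with h0 | h0
  · rw [h0] at hz; simp at hz; exact h3.elim (fun h => h h0) fun h => h hz
  · rcases lt_or_gt_of_ne h0 with h' | h'
    · nlinarith [(by omega : 2 * q2 + q0 ≤ 8)]
    · nlinarith [(by omega : -8 ≤ 2 * q2 + q0)]

theorem sep_general {i j : ℕ} (hi : i < 12) (hj : j < i) (h : special j i = false) :
    ∃ e : Kˣ × Kˣ, lam m e j ≠ 0 ∧ ∀ k : ℕ, lam m e i ^ 2 ^ k * lam m e j ≠ 1 := by
  obtain ⟨g, hg⟩ := exists_gen hK hm
  set T : ℤ := 2 ^ m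
  refine ⟨(g ^ expB T i, g ^ (-expA T i)), lam_ne _ _, fun k e => det_ne hK hm hi hj h ((hg _).1 (Units.ext ?_))⟩
  rw [lam_eq _ _ hi, lam_eq _ _ (hj.trans hi), ← zpow_mul, ← zpow_mul, ← zpow_add, ← zpow_mul, ← zpow_mul, ← zpow_add,
    show expB T i * expA T i + -expA T i * expB T i = 0 by ring, zpow_zero, Units.val_one, one_pow, one_mul] at e
  rw [Units.val_one, ← e]
  congr 2
  ring

theorem sep_self {j : ℕ} (hj : j < 12) : ∃ e : Kˣ × Kˣ, lam m e j ≠ 1 := by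
  obtain ⟨g, hg⟩ := exists_gen hK hm
  set T : ℤ := 2 ^ m
  by_contra hall
  push Not at hall
  obtain ⟨i, hi, hdd⟩ := exists_partner j hj
  have hA : (2 * (2 : ℤ) ^ (2 * m) - 1) ∣ expA T j := (hg _).1 (Units.ext (by
    have := hall (g, 1); rw [lam_eq _ _ hj] at this; simpa using this))
  have hB : (2 * (2 : ℤ) ^ (2 * m) - 1) ∣ expB T j := (hg _).1 (Units.ext (by
    have := hall (1, g); rw [lam_eq _ _ hj] at this; simpa using this))
  rcases hdd with ⟨h1, h2⟩ | ⟨h1, h2⟩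
  · exact det_ne hK hm hi h1 h2 (dvd_sub (hA.mul_left _) (hB.mul_left _))
  · exact det_ne hK hm hj h1 h2 (dvd_sub (hB.mul_right _) (hA.mul_right _))

theorem sep_special (hm2 : 2 ≤ m) {i j : ℕ} (h : special j i = true) :
    ∃ e : Kˣ × Kˣ, lam m e j ≠ 0 ∧ ∀ k : ℕ, lam m e i ^ 2 ^ k * lam m e j ≠ 1 := by
  obtain ⟨g, hg⟩ := exists_gen hK hm
  set T : ℤ := 2 ^ m with hT
  have hn : (2 : ℤ) ^ (2 * m) = T ^ 2 := by rw [hT, ← pow_mul, mul_comm]
  have hT4 : (4 : ℤ) ≤ T := by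
    calc (4 : ℤ) = 2 ^ 2 := by norm_num
      _ ≤ 2 ^ m := pow_le_pow_right₀ (by norm_num) hm2
  have key : ∀ (x : ℤ) (y : ℤ), i < 12 → j < 12 → (2 * T ^ 2 - 1) ∣ x * expA T i - 1 →
      (2 * T ^ 2 - 1) ∣ x * expA T j - (y * T + 1) → 0 ≤ y → y ≤ 2 →
      ∃ e : Kˣ × Kˣ, lam m e j ≠ 0 ∧ ∀ k : ℕ, lam m e i ^ 2 ^ k * lam m e j ≠ 1 := by
    intro x y hi hj h1 h2 hy0 hy2
    refine ⟨(g ^ x, 1), lam_ne _ _, fun k e => ?_⟩
    rw [lam_eq _ _ hi, lam_eq _ _ hj, one_zpow, one_zpow, mul_one, mul_one, ← zpow_mul, ← zpow_mul] at e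
    have hred : (g ^ (x * expA T i) : Kˣ) = g := by
      obtain ⟨c, hc⟩ := h1
      rw [show x * expA T i = (2 * T ^ 2 - 1) * c + 1 by omega, zpow_add, zpow_one,
        (hg _).2 (by rw [hn]; exact dvd_mul_right _ _), one_mul]
    have hred' : (g ^ (x * expA T j) : Kˣ) = g ^ (y * T + 1) := by
      obtain ⟨c, hc⟩ := h2
      rw [show x * expA T j = (2 * T ^ 2 - 1) * c + (y * T + 1) by omega, zpow_add,
        (hg _).2 (by rw [hn]; exact dvd_mul_right _ _), one_mul]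
    rw [hred, hred', MultW.pow_frob_mod (n := 2 * m + 1) hK] at e
    set k' := k % (2 * m + 1)
    have hk : k' ≤ 2 * m := Nat.lt_succ_iff.1 (Nat.mod_lt _ (Nat.succ_pos _))
    have hd := (hg ((2 : ℤ) ^ k' + (y * T + 1))).1 (Units.ext (by
      rw [zpow_add, Units.val_mul, Units.val_one, show ((2 : ℤ) ^ k') = ((2 ^ k' : ℕ) : ℤ) by push_cast; rfl,
        zpow_natCast, Units.val_pow_eq_pow_val]
      exact e))
    rw [hn] at hd
    have hle : (2 : ℤ) ^ k' ≤ T ^ 2 := by rw [← hn]; exact pow_le_pow_right₀ (by norm_num) hk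
    have hpos : (0 : ℤ) < 2 ^ k' := by positivity
    have := Int.le_of_dvd (by nlinarith) hd
    nlinarith
  simp only [special, List.contains_iff_mem, List.mem_cons, Prod.mk.injEq, List.not_mem_nil, or_false] at h
  rcases h with ⟨rfl, rfl⟩ | ⟨rfl, rfl⟩ | ⟨rfl, rfl⟩ | ⟨rfl, rfl⟩
  · exact key (-1) 1 (by norm_num) (by norm_num) (by norm_num [expA, col]) ⟨0, by simp [expA, col]; ring⟩ one_pos.le (by norm_num)
  · exact key 1 1 (by norm_num) (by norm_num) (by norm_num [expA, col]) ⟨0, by simp [expA, col]⟩ one_pos.le (by norm_num)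
  · exact key (-(1 + 2 * T)) 1 (by norm_num) (by norm_num) ⟨2, by simp [expA, col]; ring⟩ ⟨1, by simp [expA, col]; ring⟩
      one_pos.le (by norm_num)
  · exact key (2 + 2 * T) 2 (by norm_num) (by norm_num) ⟨-1, by simp [expA, col]; ring⟩ ⟨1, by simp [expA, col]; ring⟩
      (by norm_num) le_rfl

/-- The weights separate. -/
theorem sep : (∀ j < 12, ∃ e : Kˣ × Kˣ, lam m e j ≠ 1) ∧
    ∀ j < 12, ∀ i < 12, j ≤ i → (special j i = false ∨ 2 ≤ m) →
      ∃ e : Kˣ × Kˣ, lam m e j ≠ 0 ∧ ∀ k : ℕ, lam m e i ^ 2 ^ k * lam m e j ≠ 1 := by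
  refine ⟨fun j hj => sep_self hK hm hj, fun j hj i hi hji hs => ?_⟩
  rcases hji.lt_or_eq with h | rfl
  · cases hsp : special j i with
    | false => exact sep_general hK hm hi h hsp
    | true => exact sep_special hK hm (hs.resolve_left (by simp [hsp])) hsp
  · obtain ⟨e, he⟩ := sep_self hK hm hj
    exact ⟨e, lam_ne _ _, fun k => pow_self_ne hK he k⟩

end Cfsg.Lib.Chev.TwMult.Ree
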